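import Cfsg.Agent.IntrinsicSL2.OneInvolution
import Cfsg.Agent.Components.PComponents
import Cfsg.Agent.Signalizer.ExtendedTwoLayer
import Cfsg.Agent.S0542

/-!
# 2-components of centralisers of involutions with one involution

`Good m J s`: `J` is a 2-component of `C(s)`, `s` is its only involution and `J/O(J)` satisfies
`GoodQ`, with central quotient of order `m`.
-/

set_option autoImplicit false

namespace CfsgLib.IntrinsicSL2

open Subgroup
open scoped commutatorElement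

variable {G : Type*} [Group G]

/-- The centraliser of an element. -/
abbrev C (e : G) : Subgroup G := centralizer ({e} : Set G)

theorem mem_C {e x : G} : x ∈ C e ↔ Commute x e := mem_centralizer_singleton_iff

theorem self_mem_C (e : G) : e ∈ C e := mem_C.mpr (Commute.refl e)

/-- The projection of `C(e)` onto `C(e)/O(C(e))`. -/
abbrev pr (e : G) : ↥(C e) →* ↥(C e) ⧸ Cfsg.pPrimeCore 2 ↥(C e) := QuotientGroup.mk' _

theorem pr_surjective (e : G) : Function.Surjective (pr e) := QuotientGroup.mk'_surjective _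

/-- `K` is a 2-component of `C(e)`. -/
structure Comp (e : G) (K : Subgroup G) : Prop where
  le : K ≤ C e
  comp : Cfsg.IsPComponent 2 (K.subgroupOf (C e))

/-- A 2-component of type `SL(2, q)` or `2·A₇` with involution `s`. -/
structure Good (m : ℕ) (J : Subgroup G) (s : G) : Prop extends Comp s J where
  mem : s ∈ J
  sq : s * s = 1
  ne : s ≠ 1
  uniq : ∀ x ∈ J, x * x = 1 → x = 1 ∨ x = s
  quo : GoodQ (↥J ⧸ Cfsg.oddCore ↥J)
  index : (center (↥J ⧸ Cfsg.oddCore ↥J)).index = m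

/-- The image of a subgroup in `C(e)/O(C(e))`. -/
abbrev bar (e : G) (K : Subgroup G) : Subgroup (↥(C e) ⧸ Cfsg.pPrimeCore 2 ↥(C e)) :=
  (K.subgroupOf (C e)).map (pr e)

theorem Good.invol {m : ℕ} {J : Subgroup G} {s : G} (h : Good m J s) : Invol J s :=
  ⟨h.mem, h.sq, h.ne, h.uniq, fun _ hx => (mem_C.mp (h.le hx)).symm⟩

variable [Finite G]

theorem eq_one_of_pr {e : G} {u : C e} {k : ℕ} (h : pr e u = 1) (hk : u ^ 2 ^ k = 1) : u = 1 := by
  have hu := (QuotientGroup.eq_one_iff u).mp h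
  exact orderOf_eq_one_iff.mp (Nat.eq_one_of_dvd_coprimes
    ((CfsgLib.PLocal.coprime_card_pPrimeCore 2 ↥(C e)).pow_right k)
    ((Cfsg.pPrimeCore 2 ↥(C e)).orderOf_dvd_natCard hu) (orderOf_dvd_of_pow_eq_one hk))

theorem eq_of_pr_commute {e : G} {a b : C e} {i j : ℕ} (hab : Commute a b) (ha : a ^ 2 ^ i = 1)
    (hb : b ^ 2 ^ j = 1) (h : pr e a = pr e b) : a = b := by
  have h2 : (a⁻¹ * b) ^ 2 ^ (i + j) = 1 := by
    rw [hab.inv_left.mul_pow, inv_pow, pow_add, pow_mul, ha, one_pow, inv_one, one_mul, mul_comm,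
      pow_mul, hb, one_pow]
  exact inv_mul_eq_one.mp (eq_one_of_pr (by rw [map_mul, map_inv, h, inv_mul_cancel]) h2)

theorem eq_of_pr {e : G} {T : Subgroup G} (hT : IsPGroup 2 T) {a b : C e} (ha : (a : G) ∈ T)
    (hb : (b : G) ∈ T) (h : pr e a = pr e b) : a = b := by
  obtain ⟨k, hk⟩ := hT ⟨_, mul_mem (inv_mem ha) hb⟩
  refine inv_mul_eq_one.mp (eq_one_of_pr (k := k) (by rw [map_mul, map_inv, h, inv_mul_cancel]) ?_)
  exact Subtype.ext (by simpa using congrArg Subtype.val hk)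

/-- Involutions congruent modulo the odd core are conjugate under it. -/
theorem exists_conj_of_pr {e : G} {a b : C e} (ha : a * a = 1) (hb : b * b = 1)
    (h : pr e a = pr e b) : ∃ o : C e, pr e o = 1 ∧ o * a * o⁻¹ = b := by
  set w := a * b with hw
  have hw1 : pr e w = 1 := by rw [map_mul, ← h, ← map_mul, ha, map_one]
  have hodd : Odd (orderOf w) := by
    have hu := (QuotientGroup.eq_one_iff w).mp hw1
    have hc := (CfsgLib.PLocal.coprime_card_pPrimeCore 2 ↥(C e)).coprime_dvd_left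
      ((Cfsg.pPrimeCore 2 ↥(C e)).orderOf_dvd_natCard hu)
    exact Nat.coprime_two_right.mp hc
  obtain ⟨k, hk⟩ := hodd
  have hai : a⁻¹ = a := inv_eq_of_mul_eq_one_right ha
  have hbi : b⁻¹ = b := inv_eq_of_mul_eq_one_right hb
  refine ⟨w ^ k, by rw [map_pow, hw1, one_pow], ?_⟩
  have hinv : a * w * a⁻¹ = w⁻¹ := by
    rw [hw, mul_inv_rev, hai, hbi, ← mul_assoc a a b, ha, one_mul]
  have h1 : a * (w ^ k)⁻¹ = w ^ k * a := by
    have := conj_pow (a := a) (b := w) (i := k)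
    rw [hinv, inv_pow] at this
    rw [this, ← mul_assoc, ← mul_assoc, ha, one_mul, hai]
  rw [mul_assoc, h1, ← mul_assoc, ← pow_add]
  have h2 : w ^ (k + k) = w⁻¹ := by
    rw [eq_inv_iff_mul_eq_one, ← pow_succ, show k + k + 1 = orderOf w by omega, pow_orderOf_eq_one]
  rw [h2, hw, mul_inv_rev, hai, hbi, mul_assoc, ha, mul_one]

section Comp

variable {e : G} {K K' : Subgroup G}

theorem Comp.isComponent (h : Comp e K) : Cfsg.IsComponent (bar e K) := h.comp.2.1

theorem pr_mem_bar {x : C e} (hx : (x : G) ∈ K) : pr e x ∈ bar e K :=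
  mem_map_of_mem _ (mem_subgroupOf.mpr hx)

/-- A 2-element over `K̄` lies in `K`. -/
theorem Comp.mem_of_pr (h : Comp e K) {x : C e} {k : ℕ} (hx : x ^ 2 ^ k = 1)
    (hp : pr e x ∈ bar e K) : (x : G) ∈ K := by
  haveI : Fact (Nat.Prime 2) := ⟨Nat.prime_two⟩
  refine mem_subgroupOf.mp (CfsgLib.Components.mem_of_isSubnormal_of_mem_sup h.comp.1
    (CfsgLib.PLocal.coprime_card_pPrimeCore 2 ↥(C e)) hx ?_)
  have : x ∈ (bar e K).comap (pr e) := hp
  rwa [comap_map_eq, QuotientGroup.ker_mk'] at this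

theorem Comp.eq_of_bar (h : Comp e K) (h' : Comp e K') (hb : bar e K = bar e K') : K = K' := by
  haveI : Fact (Nat.Prime 2) := ⟨Nat.prime_two⟩
  have := CfsgLib.Components.IsPComponent.eq_of_map_eq h.comp h'.comp hb
  rw [← map_subgroupOf_eq_of_le h.le, this, map_subgroupOf_eq_of_le h'.le]

theorem Comp.commute_bar (h : Comp e K) (h' : Comp e K') (hne : K ≠ K')
    {x y : ↥(C e) ⧸ Cfsg.pPrimeCore 2 ↥(C e)} (hx : x ∈ bar e K) (hy : y ∈ bar e K') :
    Commute x y := by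
  have hb := CfsgLib.Components.IsComponent.commutator_eq_bot_of_ne h.isComponent h'.isComponent
    (fun hb => hne (h.eq_of_bar h' hb))
  exact (mem_centralizer_iff.mp (commutator_eq_bot_iff_le_centralizer.mp hb hx) y hy).symm

/-- Elements of distinct 2-components lying in one 2-group commute. -/
theorem Comp.commute_two (h : Comp e K) (h' : Comp e K') (hne : K ≠ K') {T : Subgroup G}
    (hT : IsPGroup 2 T) {x y : G} (hxK : x ∈ K) (hyK : y ∈ K') (hx : x ∈ T) (hy : y ∈ T) :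
    Commute x y := by
  have hc := h.commute_bar h' hne (pr_mem_bar (x := ⟨x, h.le hxK⟩) hxK)
    (pr_mem_bar (x := ⟨y, h'.le hyK⟩) hyK)
  have h1 : pr e (⟨x, h.le hxK⟩ * ⟨y, h'.le hyK⟩) = pr e (⟨y, h'.le hyK⟩ * ⟨x, h.le hxK⟩) := by
    rw [map_mul, map_mul]; exact hc
  exact congrArg Subtype.val (eq_of_pr hT (a := _) (b := _) (mul_mem hx hy) (mul_mem hy hx) h1)

theorem Comp.conj (h : Comp e K) (g : G) :
    Comp (g * e * g⁻¹) (K.map (MulAut.conj g).toMonoidHom) := by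
  have hC : (C e).map (MulAut.conj g).toMonoidHom = C (g * e * g⁻¹) := by
    ext x
    constructor
    · rintro ⟨y, hy, rfl⟩
      refine mem_C.mpr ?_
      show g * y * g⁻¹ * (g * e * g⁻¹) = g * e * g⁻¹ * (g * y * g⁻¹)
      rw [show g * y * g⁻¹ * (g * e * g⁻¹) = g * (y * e) * g⁻¹ by group, (mem_C.mp hy).eq]
      group
    · intro hx
      refine ⟨g⁻¹ * x * g, mem_C.mpr ?_, by simp [mul_assoc]⟩
      show g⁻¹ * x * g * e = e * (g⁻¹ * x * g)
      rw [show g⁻¹ * x * g * e = g⁻¹ * (x * (g * e * g⁻¹)) * g by group, (mem_C.mp hx).eq]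
      group
  have hle : K.map (MulAut.conj g).toMonoidHom ≤ C (g * e * g⁻¹) := hC ▸ map_mono h.le
  refine ⟨hle, ?_⟩
  have h2 := CfsgLib.Signalizer.isPComponent_map_equiv
    (((MulAut.conj g).subgroupMap (C e)).trans (MulEquiv.subgroupCongr hC)) h.comp
  convert h2 using 1
  ext x
  constructor
  · rintro ⟨y, hy, hyx⟩
    exact ⟨⟨y, h.le hy⟩, hy, Subtype.ext hyx⟩
  · rintro ⟨y, hy, rfl⟩
    exact ⟨y, hy, rfl⟩

theorem Comp.conj_of_mem (h : Comp e K) {g : G} (hg : g ∈ C e) :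
    Comp e (K.map (MulAut.conj g).toMonoidHom) := by
  have := h.conj g
  rwa [(mem_C.mp hg).eq, mul_inv_cancel_right] at this

theorem bar_conj (g : C e) :
    bar e (K.map (MulAut.conj (g : G)).toMonoidHom) =
      (bar e K).map (MulAut.conj (pr e g)).toMonoidHom := by
  ext x
  constructor
  · rintro ⟨y, ⟨k, hk, hky⟩, rfl⟩
    refine ⟨pr e (g⁻¹ * y * g), pr_mem_bar ?_, by simp [mul_assoc]⟩
    show (g : G)⁻¹ * (y : G) * (g : G) ∈ K
    have hyk : (y : G) = (g : G) * k * (g : G)⁻¹ := hky.symm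
    rw [hyk]; simpa [mul_assoc] using hk
  · rintro ⟨_, ⟨y, hy, rfl⟩, rfl⟩
    refine ⟨g * y * g⁻¹, ⟨(y : G), hy, rfl⟩, ?_⟩
    simp

end Comp

section Good

variable {m : ℕ} {J : Subgroup G} {s : G}

theorem Good.conj (h : Good m J s) (g : G) :
    Good m (J.map (MulAut.conj g).toMonoidHom) (g * s * g⁻¹) := by
  let e : J ≃* ↥(J.map (MulAut.conj g).toMonoidHom) := (MulAut.conj g).subgroupMap J
  let q : ↥J ⧸ Cfsg.oddCore ↥J ≃*
      ↥(J.map (MulAut.conj g).toMonoidHom) ⧸ Cfsg.oddCore ↥(J.map (MulAut.conj g).toMonoidHom) :=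
    QuotientGroup.congr _ _ e (CfsgLib.PLocal.map_pPrimeCore_equiv e)
  refine
    { toComp := h.toComp.conj g
      mem := ⟨s, h.mem, rfl⟩
      sq := by rw [show g * s * g⁻¹ * (g * s * g⁻¹) = g * (s * s) * g⁻¹ by group, h.sq]; group
      ne := fun e => h.ne (by simpa using e)
      uniq := ?_
      quo := h.quo.congr q
      index := ?_ }
  · rintro _ ⟨x, hx, rfl⟩ hxx
    have hxx' : x * x = 1 := (MulAut.conj g).injective (by rw [map_mul, map_one]; exact hxx)
    rcases h.uniq x hx hxx' with rfl | rfl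
    · left; simp
    · right; rfl
  · rw [← h.index, ← map_center_equiv q]
    exact index_map_equiv (center _) q

theorem Good.conj_of_mem (h : Good m J s) {g : G} (hg : g ∈ C s) :
    Good m (J.map (MulAut.conj g).toMonoidHom) s := by
  have := h.conj g
  rwa [(mem_C.mp hg).eq, mul_inv_cancel_right] at this

/-- `J/O(J)` is the image of `J` in `C(s)/O(C(s))`. -/
theorem Good.exists_equiv (h : Good m J s) :
    Nonempty (↥J ⧸ Cfsg.oddCore ↥J ≃* ↥(bar s J)) := by
  haveI : Fact (Nat.Prime 2) := ⟨Nat.prime_two⟩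
  set K := J.subgroupOf (C s)
  set e : ↥K ≃* ↥J := subgroupOfEquivOfLe h.le
  have hker : Cfsg.pPrimeCore 2 K = ((pr s).subgroupMap K).ker := by
    ext x
    rw [MonoidHom.mem_ker, ← Subtype.coe_inj]
    change _ ↔ pr s (x : ↥(C s)) = 1
    rw [QuotientGroup.mk'_apply, QuotientGroup.eq_one_iff,
      ← Subgroup.mem_map_iff_mem K.subtype_injective,
      CfsgLib.Components.map_subtype_pPrimeCore_eq h.comp.1]
    exact ⟨fun h => h.2, fun h => ⟨x.2, h⟩⟩
  exact ⟨((QuotientGroup.congr _ _ e (CfsgLib.PLocal.map_pPrimeCore_equiv e)).symm.trans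
    (QuotientGroup.quotientMulEquivOfEq hker)).trans
      (QuotientGroup.quotientKerEquivOfSurjective _ ((pr s).subgroupMap_surjective K))⟩

theorem Good.goodQ (h : Good m J s) : GoodQ ↥(bar s J) := by
  obtain ⟨e⟩ := h.exists_equiv
  exact h.quo.congr e

theorem Good.index_bar (h : Good m J s) : (center ↥(bar s J)).index = m := by
  obtain ⟨e⟩ := h.exists_equiv
  rw [← h.index, ← map_center_equiv e]
  exact index_map_equiv (center _) e

/-- `s` as an element of `C(s)`. -/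
abbrev self (s : G) : C s := ⟨s, self_mem_C s⟩

theorem Good.invol_bar (h : Good m J s) : Invol (bar s J) (pr s (self s)) := by
  have hne : pr s (self s) ≠ 1 := fun e => h.ne (congrArg Subtype.val
    (eq_one_of_pr (k := 1) e (Subtype.ext (by simpa [pow_two] using h.sq))))
  have hsq : pr s (self s) * pr s (self s) = 1 := by
    rw [← map_mul, show self s * self s = (1 : C s) from Subtype.ext h.sq, map_one]
  refine ⟨pr_mem_bar h.mem, hsq, hne, fun x hx hxx => ?_, fun x _ => ?_⟩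
  · refine or_iff_not_imp_left.mpr fun hx1 => ?_
    exact congrArg Subtype.val (h.goodQ.uniq ⟨x, hx⟩ ⟨_, pr_mem_bar h.mem⟩ (Subtype.ext hxx)
      (fun e => hx1 (congrArg Subtype.val e)) (Subtype.ext hsq)
      (fun e => hne (congrArg Subtype.val e)))
  · obtain ⟨y, rfl⟩ := pr_surjective s x
    exact (show Commute (self s) y from Subtype.ext (mem_C.mp y.2).eq.symm).map (pr s)

theorem Good.center_bar (h : Good m J s) {x : ↥(C s) ⧸ Cfsg.pPrimeCore 2 ↥(C s)}
    (hx : x ∈ bar s J) (hc : ∀ y ∈ bar s J, Commute x y) : x = 1 ∨ x = pr s (self s) := by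
  have hxc : (⟨x, hx⟩ : bar s J) ∈ center ↥(bar s J) :=
    mem_center_iff.mpr fun y => Subtype.ext (hc y y.2).eq.symm
  have := pow_card_eq_one' (G := center ↥(bar s J)) (x := ⟨_, hxc⟩)
  rw [h.goodQ.center_card, pow_two] at this
  exact h.invol_bar.uniq x hx (congrArg Subtype.val (congrArg Subtype.val this))

/-- A 2-element over an element of `J̄`. -/
theorem Good.exists_two_lift (h : Good m J s) {x : ↥(C s) ⧸ Cfsg.pPrimeCore 2 ↥(C s)}
    (hx : x ∈ bar s J) {i : ℕ} (hi : x ^ 2 ^ i = 1) :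
    ∃ w : C s, (w : G) ∈ J ∧ (∃ k : ℕ, w ^ 2 ^ k = 1) ∧ pr s w = x := by
  obtain ⟨y, hy, rfl⟩ := hx
  obtain ⟨a, n, hn, hord⟩ := Nat.exists_eq_two_pow_mul_odd (orderOf_pos y).ne'
  have hcop : n.Coprime (orderOf (pr s y)) := ((Nat.coprime_two_right.mpr hn).pow_right i).coprime_dvd_right
    (orderOf_dvd_of_pow_eq_one hi)
  obtain ⟨u, hu⟩ := exists_pow_eq_self_of_coprime hcop
  refine ⟨(y ^ n) ^ u, pow_mem (pow_mem hy n) u, ⟨a, ?_⟩, by rw [map_pow, map_pow, hu]⟩
  rw [← pow_mul, mul_comm u, pow_mul, ← pow_mul y n, mul_comm n, ← hord, pow_orderOf_eq_one, one_pow]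

/-- A 2-element in two components is trivial or the involution. -/
theorem Good.eq_of_mem_inter (h : Good m J s) {K : Subgroup G} (hK : Comp s K) (hne : J ≠ K) {r : G}
    {k : ℕ} (hk : r ^ 2 ^ k = 1) (hrJ : r ∈ J) (hrK : r ∈ K) : r = 1 ∨ r = s := by
  set r' : C s := ⟨r, h.le hrJ⟩
  have hk' : r' ^ 2 ^ k = 1 := Subtype.ext hk
  have hs : self s ^ 2 ^ 1 = 1 := Subtype.ext (by simpa [pow_two] using h.sq)
  rcases h.center_bar (pr_mem_bar (x := r') hrJ) (fun y hy =>
      (h.toComp.commute_bar hK hne hy (pr_mem_bar (x := r') hrK)).symm) with e | e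
  · exact Or.inl (congrArg Subtype.val (eq_one_of_pr e hk'))
  · exact Or.inr (congrArg Subtype.val (eq_of_pr_commute
      (show Commute r' (self s) from Subtype.ext (mem_C.mp r'.2).eq) hk' hs e))

end Good

/-- A maximal 2-subgroup of `C(e)`. -/
structure MaxTwo (e : G) (T : Subgroup G) : Prop where
  le : T ≤ C e
  isTwo : IsPGroup 2 T
  max : ∀ R : Subgroup G, R ≤ C e → IsPGroup 2 R → T ≤ R → R = T

theorem exists_maxTwo {e : G} {P : Subgroup G} (hP : IsPGroup 2 P) (hle : P ≤ C e) :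
    ∃ T, MaxTwo e T ∧ P ≤ T := by
  obtain ⟨T, hT, hmax⟩ := (Set.toFinite {R : Subgroup G | R ≤ C e ∧ IsPGroup 2 R ∧ P ≤ R}).exists_maximal
    ⟨P, hle, hP, le_rfl⟩
  exact ⟨T, ⟨hT.1, hT.2.1, fun R h1 h2 h3 =>
    le_antisymm (hmax ⟨h1, h2, hT.2.2.trans h3⟩ h3) h3⟩, hT.2.2⟩

variable {m : ℕ} {J : Subgroup G} {s : G} {T : Subgroup G}

/-- A Sylow 2-subgroup of `C(s)` meets `J̄` in a Sylow 2-subgroup. -/
theorem MaxTwo.bar_max (hT : MaxTwo s T) (h : Good m J s) :
    bar s (T ⊓ J) ≤ bar s J ∧ IsPGroup 2 ↥(bar s (T ⊓ J)) ∧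
      ∃ S : Sylow 2 ↥(bar s J), (S : Subgroup ↥(bar s J)) = (bar s (T ⊓ J)).subgroupOf (bar s J) := by
  haveI : Fact (Nat.Prime 2) := ⟨Nat.prime_two⟩
  have hle : bar s (T ⊓ J) ≤ bar s J := map_mono (comap_mono inf_le_right)
  let S₀ : Sylow 2 ↥(C s) :=
    { toSubgroup := T.subgroupOf (C s)
      isPGroup' := hT.isTwo.comap_subtype
      is_maximal' := by
        intro R hR hTR
        have := hT.max (R.map (C s).subtype) (map_subtype_le R) (hR.map _)
          (fun x hx => ⟨⟨x, hT.le hx⟩, hTR hx, rfl⟩)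
        ext x
        refine ⟨fun hx => ?_, fun hx => hTR hx⟩
        rw [mem_subgroupOf, ← this]
        exact ⟨x, hx, rfl⟩ }
  let S₁ := S₀.mapSurjective (pr_surjective s)
  obtain ⟨S, hS⟩ := Cfsg.Agent.S0542.result 2 (bar s J) h.comp.2.1.1 S₁
  refine ⟨hle, ((hT.isTwo.to_le inf_le_left).comap_subtype (K := C s)).map _, S, ?_⟩
  rw [hS]
  ext x
  simp only [mem_subgroupOf]
  constructor
  · rintro ⟨t, ht, htx⟩
    obtain ⟨k, hk⟩ := hT.isTwo ⟨t, ht⟩
    refine ⟨t, ⟨ht, h.toComp.mem_of_pr (k := k) (Subtype.ext ?_) (by rw [htx]; exact x.2)⟩, htx⟩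
    simpa using congrArg Subtype.val hk
  · rintro ⟨t, ht, htx⟩
    exact ⟨t, ht.1, htx⟩

theorem MaxTwo.exists_four (hT : MaxTwo s T) (h : Good m J s) :
    ∃ j ∈ T, j ∈ J ∧ j * j = s := by
  haveI : Fact (Nat.Prime 2) := ⟨Nat.prime_two⟩
  obtain ⟨hle, -, S, hS⟩ := hT.bar_max h
  obtain ⟨a, ha1, ha2⟩ := h.goodQ.four
  have hap : IsPGroup 2 (zpowers a) := by
    refine IsPGroup.of_card (n := 2) ?_
    rw [Nat.card_zpowers]
    refine orderOf_eq_prime_pow (p := 2) (n := 1) ?_ ?_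
    · rw [pow_one, pow_two]; exact ha1
    · rw [show 2 ^ (1 + 1) = 2 + 2 from rfl, pow_add, pow_two, ha2]
  obtain ⟨S', hS'⟩ := hap.exists_le_sylow
  obtain ⟨g, hg⟩ := MulAction.exists_smul_eq (↥(bar s J)) S S'
  have h1 := hS' (mem_zpowers a)
  rw [← hg, Sylow.coe_subgroup_smul, mem_pointwise_smul_iff_inv_smul_mem, hS] at h1
  set b := g⁻¹ * a * g with hb
  have h1' : (b : ↥(C s) ⧸ _) ∈ bar s (T ⊓ J) := by
    simpa [mem_subgroupOf, hb] using h1
  have hbb : b * b ≠ 1 ∧ b * b * (b * b) = 1 := by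
    constructor
    · intro e
      apply ha1
      calc a * a = g * (b * b) * g⁻¹ := by rw [hb]; group
        _ = 1 := by rw [e]; group
    · calc b * b * (b * b) = g⁻¹ * (a * a * (a * a)) * g := by rw [hb]; group
        _ = 1 := by rw [ha2]; group
  obtain ⟨j, ⟨hjT, hjJ⟩, hj⟩ := h1'
  refine ⟨j, hjT, hjJ, ?_⟩
  have h2 : pr s (j * j) = pr s (self s) := by
    rw [map_mul, hj]
    exact (h.invol_bar.uniq _ (mul_mem b.2 b.2) (congrArg Subtype.val hbb.2)).resolve_left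
      fun e => hbb.1 (Subtype.ext e)
  obtain ⟨k, hk⟩ := hT.isTwo ⟨j, hjT⟩
  have hk' : (j * j) ^ 2 ^ k = 1 := by
    have : j ^ 2 ^ k = 1 := Subtype.ext (by simpa using congrArg Subtype.val hk)
    rw [(Commute.refl j).mul_pow, this, one_mul]
  exact congrArg Subtype.val (eq_of_pr_commute (i := k) (j := 1)
    (show Commute (j * j) (self s) from Subtype.ext (mem_C.mp (j * j).2).eq) hk'
    (Subtype.ext (by simpa [pow_two] using h.sq)) h2)

/-- No element of order four of `J̄` centralises the image of `T ∩ J`. -/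
theorem MaxTwo.not_central_bar (hT : MaxTwo s T) (h : Good m J s)
    {r : ↥(C s) ⧸ Cfsg.pPrimeCore 2 ↥(C s)} (hr : r ∈ bar s J) (hrr : r * r = pr s (self s))
    (hc : ∀ q : C s, (q : G) ∈ T → (q : G) ∈ J → Commute (pr s q) r) : False := by
  haveI : Fact (Nat.Prime 2) := ⟨Nat.prime_two⟩
  obtain ⟨hle, hp, S, hS⟩ := hT.bar_max h
  refine h.invol_bar.not_central h.goodQ hle ?_ hp hr hrr ?_
  · intro R hR hRp hQR
    have := S.is_maximal' (hRp.comap_subtype (K := bar s J)) (by rw [hS]; exact comap_mono hQR)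
    rw [hS] at this
    rw [← map_subgroupOf_eq_of_le hR, ← map_subgroupOf_eq_of_le hle]
    exact congrArg (Subgroup.map (bar s J).subtype) this
  · rintro _ ⟨q, ⟨hqT, hqJ⟩, rfl⟩
    exact hc q hqT hqJ

theorem MaxTwo.exists_not_commute (hT : MaxTwo s T) (h : Good m J s) {a : G} (haJ : a ∈ J)
    (ha : a * a = s) : ∃ c ∈ T, c ∈ J ∧ ¬ Commute c a := by
  by_contra hcon
  push Not at hcon
  refine hT.not_central_bar h (pr_mem_bar (x := ⟨a, h.le haJ⟩) haJ)
    (by rw [← map_mul]; exact congrArg (pr s) (Subtype.ext ha)) fun q hqT hqJ => ?_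
  exact (show Commute q ⟨a, h.le haJ⟩ from Subtype.ext (hcon q hqT hqJ).eq).map (pr s)

end CfsgLib.IntrinsicSL2
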