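import Cfsg.Agent.IntrinsicSL2.Basic
import Cfsg.Agent.SylowFixing.TwoLocal
import Cfsg.Agent.Components.Balance
import Cfsg.Agent.InvComp.Trichotomy
import Cfsg.Agent.S1314

/-!
# The 2-layer of the centraliser of two commuting involutions

`LL e f` normalises the 2-components of `C(e)`; a component of the centraliser of `f` in
`C(e)/O(C(e))` lifts to a perfect subgroup of it whose images are large.
-/

set_option autoImplicit false

namespace CfsgLib.IntrinsicSL2

open Subgroup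
open scoped commutatorElement

universe u

variable {G : Type u} [Group G]

/-- The 2-layer of `C(e, f)`. -/
def LL (e f : G) : Subgroup G :=
  (Cfsg.pLayer 2 ↥(C e ⊓ C f)).map (C e ⊓ C f).subtype

theorem LL_comm (e f : G) : LL e f = LL f e := by
  unfold LL
  generalize hH : C e ⊓ C f = H
  rw [inf_comm] at hH
  subst hH
  rfl

variable [Finite G]

theorem LL_le_normalizer {e f : G} {K : Subgroup G} (h : Comp e K) (hef : Commute f e)
    (hf2 : f * f = 1) : LL e f ≤ normalizer (K : Set G) := by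
  haveI : Fact (Nat.Prime 2) := ⟨Nat.prime_two⟩
  set f' : C e := ⟨f, mem_C.mpr hef⟩
  set B : Subgroup ↥(C e) := centralizer (zpowers f' : Set ↥(C e)) with hBdef
  have hR : IsPGroup 2 (zpowers f') := by
    rintro ⟨_, i, rfl⟩
    refine ⟨1, Subtype.ext (Subtype.ext ?_)⟩
    have : f ^ 2 = 1 := by rw [pow_two, hf2]
    simp only [pow_one, SubmonoidClass.coe_pow, SubgroupClass.coe_zpow, OneMemClass.coe_one]
    rw [← zpow_natCast, ← zpow_mul, mul_comm, zpow_mul, zpow_natCast, this, one_zpow]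
  have hB : B.map (C e).subtype = C e ⊓ C f := by
    ext x
    constructor
    · rintro ⟨y, hy, rfl⟩
      exact ⟨y.2, mem_C.mpr (congrArg Subtype.val (mem_centralizer_iff.mp hy f' (mem_zpowers f'))).symm⟩
    · rintro ⟨hx1, hx2⟩
      refine ⟨⟨x, hx1⟩, ?_, rfl⟩
      have hc : Commute f' (⟨x, hx1⟩ : C e) := Subtype.ext (mem_C.mp hx2).eq.symm
      rintro _ ⟨i, rfl⟩
      exact (hc.zpow_left i).eq
  let η : ↥B ≃* ↥(C e ⊓ C f) :=
    (equivMapOfInjective B _ (C e).subtype_injective).trans (MulEquiv.subgroupCongr hB)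
  have h1 := CfsgLib.Balance.pLayer_map_subtype_le_two hR le_rfl (centralizer_le_normalizer _)
    (Or.inr rfl)
  rintro _ ⟨y, hy, rfl⟩
  have h2 := CfsgLib.Signalizer.map_pLayer_le (p := 2) η.symm ⟨y, hy, rfl⟩
  have h3 := h1 ⟨_, h2, rfl⟩
  have h4 := CfsgLib.Components.IsPComponent.pLayer_le_normalizer h.comp h3
  have hval : ((η.symm y : ↥B) : ↥(C e)) = (⟨(y : G), y.2.1⟩ : C e) := by
    apply Subtype.ext
    show ((η.symm y : ↥B) : G) = (y : G)
    conv_rhs => rw [← η.apply_symm_apply y]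
    rfl
  change (((η.symm y : ↥B) : ↥(C e))) ∈ _ at h4
  rw [hval] at h4
  refine mem_normalizer_iff.mpr fun k => ⟨fun hk => ?_, fun hk => ?_⟩
  · exact mem_subgroupOf.mp ((mem_normalizer_iff.mp h4 ⟨k, h.le hk⟩).mp (mem_subgroupOf.mpr hk))
  · have hkC : k ∈ C e := by
      have hyC : (y : G) ∈ C e := y.2.1
      have := mul_mem (mul_mem (inv_mem hyC) (h.le hk)) hyC
      simpa [mul_assoc] using this
    exact mem_subgroupOf.mp ((mem_normalizer_iff.mp h4 ⟨k, hkC⟩).mpr (mem_subgroupOf.mpr hk))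

/-- A quasisimple image has central quotient at least as large. -/
theorem index_center_dvd {A : Type*} [Group A] {B : Type*} [Group B] (η : A →* B)
    (hη : Function.Surjective η) (hA : Cfsg.IsQuasisimple A) (hB : Cfsg.IsQuasisimple B) :
    (center A).index ∣ (center B).index := by
  rw [← index_comap_of_surjective (center B) hη]
  rcases CfsgLib.Components.IsQuasisimple.normal_eq_top_or_le_center hA ((center B).comap η) with h | h
  · exfalso
    apply CfsgLib.Components.IsQuasisimple.center_ne_top hB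
    refine eq_top_iff.mpr fun b _ => ?_
    obtain ⟨a, rfl⟩ := hη b
    exact (h.ge (mem_top a) : _)
  · exact index_dvd_of_le h

theorem exists_component_over {e f : G} (hef : Commute f e) (hf2 : f * f = 1)
    (D : Subgroup (↥(C e) ⧸ Cfsg.pPrimeCore 2 ↥(C e)))
    (hDY : D ≤ centralizer {pr e ⟨f, mem_C.mpr hef⟩})
    (hD : Cfsg.IsComponent (D.subgroupOf (centralizer {pr e ⟨f, mem_C.mpr hef⟩})))
    (heven : 2 ∣ Nat.card D) :
    ∃ E : Subgroup G, E ≤ C e ⊓ C f ∧ E ≤ LL e f ∧ ⁅E, E⁆ = E ∧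
      (∀ (x : C e) (k : ℕ), Commute (x : G) f → x ^ 2 ^ k = 1 → pr e x ∈ D → (x : G) ∈ E) ∧
      (∀ {M : Type u} [Group M] (g : ↥E →* M), g ≠ 1 →
        (center ↥D).index ≤ Nat.card g.range) := by
  haveI : Fact (Nat.Prime 2) := ⟨Nat.prime_two⟩
  set f' : C e := ⟨f, mem_C.mpr hef⟩ with hf'
  set Y : Subgroup (↥(C e) ⧸ Cfsg.pPrimeCore 2 ↥(C e)) := centralizer {pr e f'} with hY
  set H : Subgroup G := C e ⊓ C f with hH
  let ι : ↥H →* ↥(C e) := inclusion inf_le_left
  have hmemY : ∀ x : ↥H, pr e (ι x) ∈ Y := fun x => by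
    refine mem_centralizer_singleton_iff.mpr ?_
    exact (show Commute (ι x) f' from Subtype.ext (mem_C.mp x.2.2).eq).map (pr e)
  let φ : ↥H →* ↥Y := ((pr e).comp ι).codRestrict Y hmemY
  have hφ : Function.Surjective φ := by
    rintro ⟨y, hy⟩
    obtain ⟨x, rfl⟩ := pr_surjective e y
    have hf2' : f' * f' = 1 := Subtype.ext hf2
    have hb : x * f' * x⁻¹ * (x * f' * x⁻¹) = 1 := by
      rw [show x * f' * x⁻¹ * (x * f' * x⁻¹) = x * (f' * f') * x⁻¹ by group, hf2']; group
    obtain ⟨o, ho, hob⟩ := exists_conj_of_pr hb hf2' (by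
      rw [map_mul, map_mul, map_inv, (mem_centralizer_singleton_iff.mp hy), mul_inv_cancel_right])
    refine ⟨⟨(o * x : C e), (o * x).2, mem_C.mpr ?_⟩, Subtype.ext ?_⟩
    · have h1 : o * x * f' = f' * (o * x) := by
        rw [← mul_inv_eq_iff_eq_mul, mul_inv_rev,
          show o * x * f' * (x⁻¹ * o⁻¹) = o * (x * f' * x⁻¹) * o⁻¹ by group, hob]
      exact congrArg Subtype.val h1
    · show pr e (o * x) = pr e x
      rw [map_mul, ho, one_mul]
  set πH := QuotientGroup.mk' (Cfsg.pPrimeCore 2 ↥H) with hπH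
  have hker : φ.ker ≤ πH.ker := by
    rw [hπH, QuotientGroup.ker_mk']
    refine CfsgLib.PLocal.le_pPrimeCore ?_
    refine (CfsgLib.PLocal.coprime_card_pPrimeCore 2 ↥(C e)).coprime_dvd_left ?_
    rw [← card_map_of_injective (f := ι) (inclusion_injective _) (K := φ.ker)]
    refine card_dvd_of_le ?_
    rintro _ ⟨x, hx, rfl⟩
    exact (QuotientGroup.eq_one_iff _).mp (congrArg Subtype.val (MonoidHom.mem_ker.mp hx))
  let ψ : ↥Y →* ↥H ⧸ Cfsg.pPrimeCore 2 ↥H := φ.liftOfSurjective hφ ⟨πH, hker⟩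
  have hψ : ∀ x, ψ (φ x) = πH x := fun x =>
    MonoidHom.liftOfRightInverse_comp_apply _ _ (Function.rightInverse_surjInv hφ) ⟨πH, hker⟩ x
  have hψs : Function.Surjective ψ := fun z => by
    obtain ⟨x, rfl⟩ := QuotientGroup.mk'_surjective _ z
    exact ⟨φ x, hψ x⟩
  set D₁ := D.subgroupOf Y with hD₁
  -- `D` does not die
  have hne : D₁.map ψ ≠ ⊥ := by
    intro h0
    have heven' : 2 ∣ Nat.card D₁ := by
      rwa [Nat.card_congr (subgroupOfEquivOfLe hDY).toEquiv]
    obtain ⟨δ, hδ⟩ := exists_prime_orderOf_dvd_card' 2 heven'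
    have h1 : ψ (δ : Y) = 1 := by
      have : ψ (δ : Y) ∈ D₁.map ψ := mem_map_of_mem _ δ.2
      rwa [h0, mem_bot] at this
    obtain ⟨x, hx⟩ := hφ (δ : Y)
    rw [← hx, hψ] at h1
    have hx1 := (QuotientGroup.eq_one_iff x).mp h1
    have hdvd : orderOf (δ : Y) ∣ orderOf x := hx ▸ orderOf_map_dvd φ x
    rw [Subgroup.orderOf_coe, hδ] at hdvd
    have hc := (CfsgLib.PLocal.coprime_card_pPrimeCore 2 ↥H).coprime_dvd_left
      (hdvd.trans ((Cfsg.pPrimeCore 2 ↥H).orderOf_dvd_natCard hx1))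
    norm_num at hc
  have hr : (ψ.comp D₁.subtype).range = D₁.map ψ := by rw [MonoidHom.range_comp, range_subtype]
  have hq : Cfsg.IsQuasisimple ↥(D₁.map ψ) :=
    hr ▸ CfsgLib.Balance.isQuasisimple_range (ψ.comp D₁.subtype) hD.2 (hr ▸ hne)
  have hDb : Cfsg.IsComponent (D₁.map ψ) := ⟨hD.1.map hψs, hq⟩
  set P := CfsgLib.Components.pComponentOver 2 (D₁.map ψ) with hP
  have hPc := CfsgLib.Components.isPComponent_pComponentOver (p := 2) hDb
  have hPm := CfsgLib.Components.map_pComponentOver (p := 2) hDb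
  refine ⟨P.map H.subtype, map_subtype_le P, map_mono (le_sSup hPc), ?_, ?_, ?_⟩
  · rw [← map_commutator, CfsgLib.Components.IsPComponent.commutator_eq_self hPc]
  · intro x k hxf hk hxD
    let x' : ↥H := ⟨x, x.2, mem_C.mpr hxf⟩
    have hk' : x' ^ 2 ^ k = 1 := Subtype.ext (by simpa using congrArg Subtype.val hk)
    refine ⟨x', CfsgLib.Components.mem_pElems ?_ hk', rfl⟩
    show πH x' ∈ D₁.map ψ
    exact ⟨φ x', hxD, hψ x'⟩
  · intro M _ g hg
    let ε : ↥P ≃* ↥(P.map H.subtype) := equivMapOfInjective P _ H.subtype_injective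
    let g' : ↥P →* M := g.comp ε.toMonoidHom
    have hrange : g'.range = g.range := by
      show (g.comp ε.toMonoidHom).range = g.range
      rw [MonoidHom.range_comp, MonoidHom.range_eq_top.mpr ε.surjective, MonoidHom.range_eq_map]
    set N := g'.ker.map P.subtype with hN
    have hNP : N ≤ P := map_subtype_le _
    have hNsn : N.IsSubnormal := (Normal.isSubnormal inferInstance).trans' hPc.1
    have hmap : (N.map πH).subgroupOf (D₁.map ψ) ≤ center ↥(D₁.map ψ) := by
      refine (CfsgLib.Components.IsQuasisimple.subnormal_eq_top_or_le_center hq _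
        hNsn.quotient.subgroupOf).resolve_left fun htop => hg ?_
      have hNeq : N = P := hPc.2.2 N hNsn hNP
        (le_antisymm (map_mono hNP) (hPm.le.trans (subgroupOf_eq_top.mp htop)))
      ext x
      obtain ⟨x, rfl⟩ := ε.surjective x
      have hxN : (x : ↥H) ∈ N := by rw [hNeq]; exact x.2
      obtain ⟨y, hy, hyx⟩ := hxN
      have hy1 : g' y = 1 := hy
      rw [Subtype.ext hyx] at hy1
      exact hy1
    let θ₀ : ↥P →* ↥(D₁.map ψ) :=
      ((MulEquiv.subgroupCongr hPm).toMonoidHom).comp (πH.subgroupMap P)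
    have hθ₀ : Function.Surjective θ₀ :=
      (MulEquiv.subgroupCongr hPm).surjective.comp (πH.subgroupMap_surjective P)
    have hkle : g'.ker ≤ (center ↥(D₁.map ψ)).comap θ₀ := fun x hx =>
      hmap (show ((θ₀ x : ↥(D₁.map ψ)) : ↥H ⧸ _) ∈ N.map πH from ⟨x, ⟨x, hx, rfl⟩, rfl⟩)
    rw [← hrange, ← Subgroup.index_ker]
    refine Nat.le_of_dvd (Nat.pos_of_ne_zero index_ne_zero_of_finite) (dvd_trans ?_ (index_dvd_of_le hkle))
    rw [index_comap_of_surjective _ hθ₀]
    have hd := index_center_dvd (ψ.subgroupMap D₁) (ψ.subgroupMap_surjective D₁) hD.2 hq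
    refine dvd_trans (dvd_of_eq ?_) hd
    rw [← map_center_equiv (subgroupOfEquivOfLe hDY)]
    exact index_map_equiv (center _) (subgroupOfEquivOfLe hDY)

variable {X : Type u} [Group X] [Finite X]

/-- A perfect group with large images normalising `L` and commuting with `σ`: it centralises `L`,
or `σ` does. -/
theorem le_centralizer_or_mem (L P : Subgroup X) (hQ : GoodQ ↥L) (hLp : ⁅L, L⁆ = L)
    (hP : ⁅P, P⁆ = P) (hPL : P ≤ normalizer (L : Set X)) {σ : X}
    (hσ : σ ∈ normalizer (L : Set X)) (hσP : ∀ p ∈ P, Commute σ p)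
    (hcard : ∀ g : ↥P →* MulAut ↥L, g ≠ 1 → (center ↥L).index ≤ Nat.card g.range) :
    P ≤ centralizer (L : Set X) ∨ σ ∈ centralizer (L : Set X) := by
  let ρ : ↥(normalizer (L : Set X)) →* MulAut ↥L := L.normalizerMonoidHom
  have hρ : ∀ (n : ↥(normalizer (L : Set X))) (l : L), ((ρ n l : L) : X) = (n : X) * l * (n : X)⁻¹ :=
    fun n l => rfl
  let g : ↥P →* MulAut ↥L := ρ.comp (inclusion hPL)
  have hker : ∀ n : ↥(normalizer (L : Set X)), ρ n = 1 → (n : X) ∈ centralizer (L : Set X) := by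
    intro n hn l hl
    have := congrArg (fun φ : MulAut ↥L => ((φ ⟨l, hl⟩ : L) : X)) hn
    simp only [hρ, MulAut.one_apply] at this
    exact (mul_inv_eq_iff_eq_mul.mp this).symm
  by_cases hg : g = 1
  · left
    intro p hp
    exact hker (inclusion hPL ⟨p, hp⟩) (congrArg (fun φ : ↥P →* MulAut ↥L => φ ⟨p, hp⟩) hg)
  right
  have hle : g.range ≤ (MulAut.conj : ↥L →* MulAut ↥L).range := by
    rintro _ ⟨⟨p, hp⟩, rfl⟩
    obtain ⟨l, hl, hlp⟩ := CfsgLib.Balance.exists_mul_inv_mem_centralizer hP hPL hLp hQ.out hp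
    refine ⟨⟨l, hl⟩, ?_⟩
    ext x
    show l * x * l⁻¹ = p * x * p⁻¹
    have h := hlp (x : X) x.2
    calc l * (x : X) * l⁻¹ = l * ((x : X) * (l⁻¹ * p)) * p⁻¹ := by group
      _ = l * ((l⁻¹ * p) * x) * p⁻¹ := by rw [h]
      _ = _ := by group
  have hconjker : (MulAut.conj : ↥L →* MulAut ↥L).ker = center ↥L := by
    ext x
    rw [MonoidHom.mem_ker, mem_center_iff]
    constructor
    · intro h y
      have := DFunLike.congr_fun h y
      simp at this
      exact (mul_inv_eq_iff_eq_mul.mp this).symm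
    · intro h
      ext y
      simp [← h y, mul_assoc]
  have heq : g.range = (MulAut.conj : ↥L →* MulAut ↥L).range := by
    refine eq_of_le_of_card_ge hle ?_
    rw [← Subgroup.index_ker, hconjker]
    exact hcard g hg
  refine fun l hl => ?_
  have hcomm : ∀ x ∈ L, σ * x * σ⁻¹ * x⁻¹ ∈ centralizer (L : Set X) := by
    intro x hx
    obtain ⟨⟨p, hp⟩, hpx⟩ : (MulAut.conj (⟨x, hx⟩ : L)) ∈ g.range := heq ▸ ⟨_, rfl⟩
    have hp' : ∀ y ∈ L, p * y * p⁻¹ = x * y * x⁻¹ := fun y hy =>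
      congrArg (fun φ : MulAut ↥L => ((φ ⟨y, hy⟩ : L) : X)) hpx
    intro y hy
    set y' := σ⁻¹ * (x⁻¹ * y * x) * σ with hy'
    have hy'L : y' ∈ L := (mem_normalizer_iff''.mp hσ _).mp (mul_mem (mul_mem (inv_mem hx) hy) hx)
    have h1 : σ * (x * y' * x⁻¹) * σ⁻¹ = x * (σ * y' * σ⁻¹) * x⁻¹ := by
      have hσy : σ * y' * σ⁻¹ ∈ L := (mem_normalizer_iff.mp hσ y').mp hy'L
      rw [← hp' y' hy'L, ← hp' _ hσy]
      have hc := (hσP p hp).eq
      calc σ * (p * y' * p⁻¹) * σ⁻¹ = (σ * p) * y' * (σ * p)⁻¹ := by group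
        _ = (p * σ) * y' * (p * σ)⁻¹ := by rw [hc]
        _ = _ := by group
    have h2 : x * (σ * y' * σ⁻¹) * x⁻¹ = y := by rw [hy']; group
    rw [h2] at h1
    calc y * (σ * x * σ⁻¹ * x⁻¹) = σ * (x * y' * x⁻¹) * σ⁻¹ * (σ * x * σ⁻¹ * x⁻¹) := by rw [h1]
      _ = σ * x * σ⁻¹ * x⁻¹ * y := by rw [hy']; group
  have hR : ⁅L, zpowers σ⁆ ≤ centralizer (L : Set X) := by
    refine commutator_le.mpr fun x hx q hq => ?_
    obtain ⟨i, rfl⟩ := hq
    induction i using Int.induction_on with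
    | zero => simp [commutatorElement_def]
    | succ i ih =>
      have hxi : σ ^ (i : ℤ) * x * (σ ^ (i : ℤ))⁻¹ ∈ L :=
        (mem_normalizer_iff.mp (zpow_mem hσ _) x).mp hx
      have h := mul_mem (inv_mem (hcomm _ hxi)) (ih)
      rw [commutatorElement_def] at ih ⊢
      have e : x * σ ^ ((i : ℤ) + 1) * x⁻¹ * (σ ^ ((i : ℤ) + 1))⁻¹ =
          (x * σ ^ (i : ℤ) * x⁻¹ * (σ ^ (i : ℤ))⁻¹) *
            (σ * (σ ^ (i : ℤ) * x * (σ ^ (i : ℤ))⁻¹) * σ⁻¹ *
              (σ ^ (i : ℤ) * x * (σ ^ (i : ℤ))⁻¹)⁻¹)⁻¹ := by group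
      rw [e]
      exact mul_mem ih (inv_mem (hcomm _ hxi))
    | pred i ih =>
      set y := σ ^ (-(i : ℤ) - 1) * x * (σ ^ (-(i : ℤ) - 1))⁻¹
      have hy : y ∈ L := (mem_normalizer_iff.mp (zpow_mem hσ _) x).mp hx
      rw [commutatorElement_def] at ih ⊢
      have e : x * σ ^ (-(i : ℤ) - 1) * x⁻¹ * (σ ^ (-(i : ℤ) - 1))⁻¹ =
          (x * σ ^ (-(i : ℤ)) * x⁻¹ * (σ ^ (-(i : ℤ)))⁻¹) * (σ * y * σ⁻¹ * y⁻¹) := by
        simp only [y]; group
      rw [e]
      exact mul_mem ih (hcomm y hy)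
  have := CfsgLib.Components.commutator_eq_bot_of_commutator_le_centralizer hLp hR
  exact (mem_centralizer_iff.mp (commutator_eq_bot_iff_le_centralizer.mp this hl) σ (mem_zpowers σ)).symm

/-- The diagonal component in the centraliser of an involution moving `L`. -/
theorem exists_diagonal {t : X} (ht : orderOf t = 2) {L : Subgroup X} (hL : Cfsg.IsComponent L)
    (hne : L.map (MulAut.conj t).toMonoidHom ≠ L) :
    ∃ D ≤ centralizer ({t} : Set X), Cfsg.IsComponent (D.subgroupOf (centralizer ({t} : Set X))) ∧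
      (center ↥L).index ≤ (center ↥D).index ∧ ∀ l ∈ L, l * (t * l * t⁻¹) ∈ D := by
  set L' := L.map (MulAut.conj t).toMonoidHom with hL'
  set Y := centralizer ({t} : Set X)
  have hL'c := CfsgLib.Components.IsComponent.conj hL t
  obtain ⟨π, hπ, hkerπ, hran, heq⟩ := Cfsg.Agent.S1314.result t ht L
    (CfsgLib.Components.IsComponent.commutator_eq_self hL)
    (CfsgLib.Components.IsComponent.commutator_eq_bot_of_ne hL hL'c (Ne.symm hne))
  have hπne : π.range ≠ ⊥ := by
    intro h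
    apply CfsgLib.Components.IsQuasisimple.center_ne_top hL.2
    refine eq_top_iff.mpr fun x _ => hkerπ ?_
    rw [MonoidHom.mem_ker, MonoidHom.range_eq_bot_iff.mp h]; rfl
  have hq := CfsgLib.Balance.isQuasisimple_range π hL.2 hπne
  set V := (L ⊔ L') ⊓ Y
  have hW : (L ⊔ L').IsSubnormal := by
    have hLlay := sup_le (CfsgLib.Components.IsComponent.le_layer hL)
      (CfsgLib.Components.IsComponent.le_layer hL'c)
    refine IsSubnormal.step _ _ hLlay (inferInstance : (Cfsg.layer X).Normal).isSubnormal ?_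
    refine normal_subgroupOf_of_le_normalizer ?_
    have := CfsgLib.Components.layer_le_normalizer_sSup (G := X) (S := {L, L'})
      (by rintro K (rfl | rfl) <;> assumption)
    rwa [sSup_pair] at this
  have hsn : (π.range.subgroupOf Y).IsSubnormal := by
    have hle : π.range ≤ V := by
      rw [← heq]; exact (commutator_le_sup _ _).trans (sup_idem V).le
    refine IsSubnormal.step _ (V.subgroupOf Y) (comap_mono hle) (?_ : (V.subgroupOf Y).IsSubnormal)
      (normal_subgroupOf_of_le_normalizer ?_)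
    · rw [inf_subgroupOf_right]; exact hW.comap _
    · intro x hx
      refine mem_normalizer_iff.mpr fun y => ?_
      simp only [mem_subgroupOf, Subgroup.coe_mul, InvMemClass.coe_inv]
      rw [← heq]
      exact mem_normalizer_iff.mp
        (normalizer_commutator_ge_left V V (mem_subgroupOf.mp hx)) _
  refine ⟨π.range, hran, ⟨hsn, CfsgLib.Components.isQuasisimple_congr
    (subgroupOfEquivOfLe hran).symm hq⟩, ?_, fun l hl => ⟨⟨l, hl⟩, hπ _⟩⟩
  exact Nat.le_of_dvd (Nat.pos_of_ne_zero index_ne_zero_of_finite)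
    (index_center_dvd π.rangeRestrict π.rangeRestrict_surjective hL.2 hq)

end CfsgLib.IntrinsicSL2
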