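import Cfsg.Agent.IntrinsicSL2.Swap
import Cfsg.Agent.Components.Layer

/-!
# Elements of order four of `K` centralising `z(J)` normalise `J`

Part (i) of Aschbacher's lemma on intrinsic `SL(2, q)` and `2·A₇` 2-components.
-/

set_option autoImplicit false

namespace CfsgLib.IntrinsicSL2

open Subgroup
open scoped commutatorElement

universe u

variable {G : Type u} [Group G] [Finite G] {m : ℕ} {J K : Subgroup G} {s t y : G} {T : Subgroup G}

/-- The common hypotheses: `z(J) = s` and `z(K) = t` commute, normalise each other's component,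
and `y ∈ K` is a 2-element of order at least four centralising `s`, moving `J` with `y²` fixing it. -/
structure Config (m : ℕ) (J K : Subgroup G) (s t y : G) : Prop where
  hJ : Good m J s
  hK : Good m K t
  hst : Commute s t
  hne : s ≠ t
  hsK : s ∈ normalizer (K : Set G)
  htJ : t ∈ normalizer (J : Set G)
  hyK : y ∈ K
  hys : Commute y s
  hy2 : ∃ k : ℕ, y ^ 2 ^ k = 1
  hy4 : y * y ≠ 1
  hmove : y ∉ normalizer (J : Set G)
  hfix : y * y ∈ normalizer (J : Set G)

namespace Config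

theorem commute_yt (c : Config m J K s t y) : Commute y t := mem_C.mp (c.hK.le c.hyK)

theorem exists_pow (c : Config m J K s t y) : ∃ j : ℕ, (y * y) ^ 2 ^ j = t := by
  obtain ⟨k, hk⟩ := c.hy2
  exact c.hK.invol.exists_pow_eq k (mul_mem c.hyK c.hyK)
    (by rw [(Commute.refl y).mul_pow, hk, one_mul]) c.hy4

theorem t_mem (c : Config m J K s t y) (hyT : y ∈ T) : t ∈ T := by
  obtain ⟨j, hj⟩ := c.exists_pow
  exact hj ▸ pow_mem (mul_mem hyT hyT) _

/-- The basic step. -/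
theorem omega (c : Config m J K s t y) (hT : MaxTwo s T) (hyT : y ∈ T) {x : G} (hxT : x ∈ T)
    (hxJ : x ∈ J) (htx : t * x * t⁻¹ = x ∨ t * x * t⁻¹ = x * s) :
    y * y * x * (y * y)⁻¹ = x ∨
      (y * y = t ∧ y * y * x * (y * y)⁻¹ = x * s ∧
        x * (y * x * y⁻¹) ∉ normalizer (K : Set G) ∧
        (x * (y * x * y⁻¹))⁻¹ * y * (x * (y * x * y⁻¹)) = s * y) := by
  haveI : Fact (Nat.Prime 2) := ⟨Nat.prime_two⟩
  have hyC : y ∈ C s := mem_C.mpr c.hys
  have hJ' : Good m (J.map (MulAut.conj y).toMonoidHom) s := c.hJ.conj_of_mem hyC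
  have hne' : J ≠ J.map (MulAut.conj y).toMonoidHom := fun he =>
    c.hmove (mem_normalizer_iff_map_conj_eq.mpr he.symm)
  have htT := c.t_mem hyT
  set x' := y * x * y⁻¹ with hx'
  have hx'J : x' ∈ J.map (MulAut.conj y).toMonoidHom := ⟨x, hxJ, rfl⟩
  have hx'T : x' ∈ T := mul_mem (mul_mem hyT hxT) (inv_mem hyT)
  have hxx' : Commute x x' :=
    c.hJ.toComp.commute_two hJ'.toComp hne' hT.isTwo hxJ hx'J hxT hx'T
  set x'' := y * y * x * (y * y)⁻¹ with hx''
  have hx''J : x'' ∈ J := (mem_normalizer_iff.mp c.hfix x).mp hxJ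
  have hx''T : x'' ∈ T := mul_mem (mul_mem (mul_mem hyT hyT) hxT) (inv_mem (mul_mem hyT hyT))
  by_cases hr1 : x⁻¹ * x'' = 1
  · exact Or.inl (inv_mul_eq_one.mp hr1).symm
  right
  set ζ := x * x' with hζ
  have hsx : Commute s x := (mem_C.mp (c.hJ.le hxJ)).symm
  have hyt := c.commute_yt
  have hζs : Commute ζ s := (hsx.symm).mul_left (mem_C.mp (hT.le hx'T))
  have hζt : Commute ζ t := by
    have hx't : t * x' * t⁻¹ = y * (t * x * t⁻¹) * y⁻¹ := by
      calc t * x' * t⁻¹ = (t * y) * x * (t * y)⁻¹ := by rw [hx']; group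
        _ = (y * t) * x * (y * t)⁻¹ := by rw [hyt.eq]
        _ = _ := by group
    have : t * ζ * t⁻¹ = ζ := by
      rw [show t * ζ * t⁻¹ = (t * x * t⁻¹) * (t * x' * t⁻¹) by rw [hζ]; group, hx't]
      rcases htx with h | h
      · rw [h]
      · rw [h]
        have h1 : y * (x * s) * y⁻¹ = x' * s := by
          calc y * (x * s) * y⁻¹ = x' * (y * s * y⁻¹) := by rw [hx']; group
            _ = _ := by rw [c.hys.eq, mul_inv_cancel_right]
        rw [h1, show x * s * (x' * s) = x * (s * x') * s by group,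
          (mem_C.mp (hT.le hx'T)).eq.symm, show x * (x' * s) * s = x * x' * (s * s) by group,
          c.hJ.sq, mul_one]
    exact (mul_inv_eq_iff_eq_mul.mp this).symm
  have hr : ζ⁻¹ * (y * ζ * y⁻¹) = x⁻¹ * x'' := by
    calc ζ⁻¹ * (y * ζ * y⁻¹) = x'⁻¹ * x⁻¹ * (x' * x'') := by rw [hζ, hx', hx'']; group
      _ = x'⁻¹ * (x⁻¹ * x') * x'' := by group
      _ = _ := by rw [hxx'.inv_left.eq]; group
  have hrJ : x⁻¹ * x'' ∈ J := mul_mem (inv_mem hxJ) hx''J
  have hrT : x⁻¹ * x'' ∈ T := mul_mem (inv_mem hxT) hx''T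
  obtain ⟨k, hk⟩ := hT.isTwo ⟨_, hrT⟩
  have hk' : (x⁻¹ * x'') ^ 2 ^ k = 1 := congrArg Subtype.val hk
  have hζN : ζ ∉ normalizer (K : Set G) := by
    intro hN
    have hrK : x⁻¹ * x'' ∈ K := by
      rw [← hr, show ζ⁻¹ * (y * ζ * y⁻¹) = (ζ⁻¹ * y * ζ) * y⁻¹ by group]
      exact mul_mem ((mem_normalizer_iff''.mp hN y).mp c.hyK) (inv_mem c.hyK)
    obtain ⟨i, hi⟩ := c.hJ.invol.exists_pow_eq k hrJ hk' hr1
    have hsK' : s ∈ K := hi ▸ pow_mem hrK _
    exact (c.hK.uniq s hsK' c.hJ.sq).elim c.hJ.ne c.hne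
  have hζC : ζ⁻¹ ∈ C t := inv_mem (mem_C.mpr hζt)
  have hK2 : Good m (K.map (MulAut.conj ζ⁻¹).toMonoidHom) t := c.hK.conj_of_mem hζC
  have hKne : K ≠ K.map (MulAut.conj ζ⁻¹).toMonoidHom := fun he =>
    hζN (by simpa using inv_mem (mem_normalizer_iff_map_conj_eq.mpr he.symm))
  set y2 := ζ⁻¹ * y * ζ with hy2
  have hy2K : y2 ∈ K.map (MulAut.conj ζ⁻¹).toMonoidHom := ⟨y, c.hyK, by simp [hy2]⟩
  have hζT : ζ ∈ T := mul_mem hxT hx'T
  have hy2T : y2 ∈ T := mul_mem (mul_mem (inv_mem hζT) hyT) hζT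
  have hyy2 : Commute y y2 :=
    c.hK.toComp.commute_two hK2.toComp hKne hT.isTwo c.hyK hy2K hyT hy2T
  have hr2 : x⁻¹ * x'' = y2 * y⁻¹ := by rw [← hr, hy2]; group
  have hrJ' : x⁻¹ * x'' ∈ J.map (MulAut.conj y).toMonoidHom := by
    refine ⟨x⁻¹ * x'', hrJ, ?_⟩
    show y * (x⁻¹ * x'') * y⁻¹ = x⁻¹ * x''
    rw [hr2, show y * (y2 * y⁻¹) * y⁻¹ = (y * y2) * y⁻¹ * y⁻¹ by group, hyy2.eq]
    group
  have hrs : x⁻¹ * x'' = s :=
    (c.hJ.eq_of_mem_inter hJ'.toComp hne' hk' hrJ hrJ').resolve_left hr1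
  have hy2eq : y2 = s * y := by
    rw [← hrs, hr2]; group
  refine ⟨?_, ?_, hζN, hy2eq⟩
  · have h2 : y * y ∈ K.map (MulAut.conj ζ⁻¹).toMonoidHom := by
      have h3 := mul_mem hy2K hy2K
      rwa [hy2eq, show s * y * (s * y) = s * (y * s) * y by group, c.hys.eq,
        show s * (s * y) * y = (s * s) * (y * y) by group, c.hJ.sq, one_mul] at h3
    obtain ⟨i, hi⟩ := c.hy2
    exact (c.hK.eq_of_mem_inter hK2.toComp hKne (k := i)
      (by rw [(Commute.refl y).mul_pow, hi, one_mul]) (mul_mem c.hyK c.hyK) h2).resolve_left c.hy4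
  · exact (eq_mul_of_inv_mul_eq hrs)

/-- The case of an element inverted modulo `s` by `t`. -/
theorem false_of_inverted (c : Config m J K s t y) (hT : MaxTwo s T) (hyT : y ∈ T) {x : G}
    (hxT : x ∈ T) (hxJ : x ∈ J) (htx : t * x * t⁻¹ = x * s) : False := by
  haveI : Fact (Nat.Prime 2) := ⟨Nat.prime_two⟩
  have hyt := c.commute_yt
  rcases c.omega hT hyT hxT hxJ (Or.inr htx) with hfx | ⟨hyy, hx2, hζN, hy2⟩
  · obtain ⟨j, hj⟩ := c.exists_pow
    have hc : Commute (y * y) x := mul_inv_eq_iff_eq_mul.mp hfx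
    have := (hc.pow_left (2 ^ j)).eq
    rw [hj] at this
    rw [this, mul_inv_cancel_right] at htx
    exact c.hJ.ne (mul_eq_left.mp htx.symm)
  set x' := y * x * y⁻¹ with hx'def
  set ζ := x * x' with hζdef
  have hyC : y ∈ C s := mem_C.mpr c.hys
  have hJ' : Good m (J.map (MulAut.conj y).toMonoidHom) s := c.hJ.conj_of_mem hyC
  set J' := J.map (MulAut.conj y).toMonoidHom with hJ'def
  have hJne : J ≠ J' := fun he => c.hmove (mem_normalizer_iff_map_conj_eq.mpr he.symm)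
  have hx'J : x' ∈ J' := ⟨x, hxJ, rfl⟩
  have hx'T : x' ∈ T := mul_mem (mul_mem hyT hxT) (inv_mem hyT)
  have hxs : Commute x s := mem_C.mp (c.hJ.le hxJ)
  have hx's : Commute x' s := mem_C.mp (hT.le hx'T)
  have htx' : t * x' * t⁻¹ = x' * s := by
    calc t * x' * t⁻¹ = (t * y) * x * (t * y)⁻¹ := by rw [hx'def]; group
      _ = (y * t) * x * (y * t)⁻¹ := by rw [hyt.eq]
      _ = y * (t * x * t⁻¹) * y⁻¹ := by group
      _ = x' * (y * s * y⁻¹) := by rw [htx, hx'def]; group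
      _ = _ := by rw [c.hys.eq, mul_inv_cancel_right]
  have hζs : Commute ζ s := hxs.mul_left hx's
  have hζt : Commute ζ t := by
    have : t * ζ * t⁻¹ = ζ := by
      rw [show t * ζ * t⁻¹ = (t * x * t⁻¹) * (t * x' * t⁻¹) by rw [hζdef]; group, htx, htx',
        show x * s * (x' * s) = x * (s * x') * s by group, hx's.eq.symm,
        show x * (x' * s) * s = x * x' * (s * s) by group, c.hJ.sq, mul_one]
    exact (mul_inv_eq_iff_eq_mul.mp this).symm
  have htC : t ∈ C s := mem_C.mpr c.hst.symm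
  have hsC : s ∈ C t := mem_C.mpr c.hst
  have hζCt : ζ ∈ C t := mem_C.mpr hζt
  set K2 := K.map (MulAut.conj ζ⁻¹).toMonoidHom with hK2def
  have hK2 : Good m K2 t := c.hK.conj_of_mem (inv_mem hζCt)
  have hKne : K ≠ K2 := fun he =>
    hζN (by simpa using inv_mem (mem_normalizer_iff_map_conj_eq.mpr he.symm))
  have hsyK2 : s * y ∈ K2 := hy2 ▸ ⟨y, c.hyK, by simp⟩
  -- an element `w'` with `w' t w'⁻¹ = t` and `w' s w'⁻¹ = s t`
  set yb : C t := ⟨y, c.hK.le c.hyK⟩
  set sb : C t := ⟨s, hsC⟩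
  set zb := pr t (self t) with hzb
  have hyb : pr t yb ∈ bar t K := pr_mem_bar c.hyK
  have hybsq : pr t yb * pr t yb = zb := by
    rw [← map_mul]; exact congrArg (pr t) (Subtype.ext hyy)
  obtain ⟨wq, hwq, hwqsq, hwqy⟩ := c.hK.invol_bar.exists_inverting c.hK.goodQ hyb hybsq
  obtain ⟨wb, rfl⟩ := pr_surjective t wq
  have hsyb : pr t (sb * yb) ∈ bar t K2 := pr_mem_bar hsyK2
  have hws : pr t wb * pr t sb * (pr t wb)⁻¹ = pr t sb * zb := by
    have hc : Commute (pr t wb) (pr t (sb * yb)) :=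
      c.hK.toComp.commute_bar hK2.toComp hKne hwq hsyb
    have h1 : pr t wb * pr t (sb * yb) * (pr t wb)⁻¹ = pr t (sb * yb) := by
      rw [hc.eq, mul_inv_cancel_right]
    rw [map_mul, show pr t wb * (pr t sb * pr t yb) * (pr t wb)⁻¹ =
      (pr t wb * pr t sb * (pr t wb)⁻¹) * (pr t wb * pr t yb * (pr t wb)⁻¹) by group, hwqy] at h1
    rw [eq_mul_inv_of_mul_eq h1, mul_inv_rev, c.hK.invol_bar.inv_eq,
      ((c.hK.invol_bar.comm _ hyb).inv_right).eq, hzb]
    group
  have hsb2 : sb * sb = 1 := Subtype.ext c.hJ.sq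
  have hb1 : wb * sb * wb⁻¹ * (wb * sb * wb⁻¹) = 1 := by
    rw [show wb * sb * wb⁻¹ * (wb * sb * wb⁻¹) = wb * (sb * sb) * wb⁻¹ by group, hsb2]; group
  have hb2 : sb * self t * (sb * self t) = 1 := Subtype.ext (by
    show s * t * (s * t) = 1
    rw [show s * t * (s * t) = s * (t * s) * t by group, ← c.hst.eq,
      show s * (s * t) * t = (s * s) * (t * t) by group, c.hJ.sq, c.hK.sq, one_mul])
  obtain ⟨o, -, ho⟩ := exists_conj_of_pr hb1 hb2 (by
    rw [map_mul, map_mul, map_inv, hws, map_mul, hzb])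
  set w' : G := ((o * wb : C t) : G) with hw'
  have hw't : w' * t * w'⁻¹ = t := by
    rw [(mem_C.mp (o * wb).2).eq, mul_inv_cancel_right]
  have hw's : w' * s * w'⁻¹ = s * t := by
    have h1 : (o * wb) * sb * (o * wb)⁻¹ = sb * self t := by rw [← ho]; group
    exact congrArg Subtype.val h1
  -- `g` carries `(t, s)` to `(s, st)`
  have hxt : x * t * x⁻¹ = s * t := by
    calc x * t * x⁻¹ = x * (t * x * t⁻¹)⁻¹ * t := by group
      _ = _ := by rw [htx, mul_inv_rev, inv_eq_of_mul_eq_one_right c.hJ.sq, ← mul_assoc x s,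
                    hxs.eq, mul_inv_cancel_right]
  set g := w' * x with hg
  have hgt : g * t * g⁻¹ = s := by
    calc g * t * g⁻¹ = w' * (x * t * x⁻¹) * w'⁻¹ := by rw [hg]; group
      _ = (w' * s * w'⁻¹) * (w' * t * w'⁻¹) := by rw [hxt]; group
      _ = _ := by rw [hw's, hw't, mul_assoc, c.hK.sq, mul_one]
  have hgs : g * s * g⁻¹ = s * t := by
    calc g * s * g⁻¹ = w' * (x * s * x⁻¹) * w'⁻¹ := by rw [hg]; group
      _ = _ := by rw [hxs.eq, mul_inv_cancel_right, hw's]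
  set M := K.map (MulAut.conj g).toMonoidHom with hMdef
  set M2 := K2.map (MulAut.conj g).toMonoidHom with hM2def
  have hM : Good m M s := hgt ▸ c.hK.conj g
  have hM2 : Good m M2 s := hgt ▸ hK2.conj g
  have hMne : M ≠ M2 := fun he => hKne (map_injective (MulAut.conj g).injective he)
  set m1 := g * y⁻¹ * g⁻¹ with hm1
  set m2 := g * (s * y) * g⁻¹ with hm2
  have hm1M : m1 ∈ M := ⟨y⁻¹, inv_mem c.hyK, rfl⟩
  have hm2M : m2 ∈ M2 := ⟨s * y, hsyK2, rfl⟩
  have hm1sq : m1 * m1 = s := by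
    rw [hm1, show g * y⁻¹ * g⁻¹ * (g * y⁻¹ * g⁻¹) = g * (y * y)⁻¹ * g⁻¹ by group, hyy,
      inv_eq_of_mul_eq_one_right c.hK.sq, hgt]
  have hm2sq : m2 * m2 = s := by
    rw [hm2, show g * (s * y) * g⁻¹ * (g * (s * y) * g⁻¹) = g * (s * (y * s) * y) * g⁻¹ by group,
      c.hys.eq, show s * (s * y) * y = (s * s) * (y * y) by group, c.hJ.sq, one_mul, hyy, hgt]
  set m1b : C s := ⟨m1, hM.le hm1M⟩
  set m2b : C s := ⟨m2, hM2.le hm2M⟩
  set tb : C s := ⟨t, htC⟩
  have htm : tb = self s * (m2b * m1b) := Subtype.ext (by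
    show t = s * (m2 * m1)
    rw [hm2, hm1, show g * (s * y) * g⁻¹ * (g * y⁻¹ * g⁻¹) = g * s * g⁻¹ by group, hgs,
      ← mul_assoc, c.hJ.sq, one_mul])
  have hcomm12 : Commute (pr s m2b) (pr s m1b) :=
    hM2.toComp.commute_bar hM.toComp (Ne.symm hMne) (pr_mem_bar hm2M) (pr_mem_bar hm1M)
  -- `J` and `J'` are `M` and `M2`
  have hmem : ∀ (J₀ : Subgroup G) (x₀ : G), Good m J₀ s → x₀ ∈ J₀ → t * x₀ * t⁻¹ = x₀ * s →
      J₀ = M ∨ J₀ = M2 := by
    intro J₀ x₀ h₀ hx₀ ht₀
    by_contra hcon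
    push Not at hcon
    set xb : C s := ⟨x₀, h₀.le hx₀⟩
    have h1 := h₀.toComp.commute_bar hM.toComp hcon.1 (pr_mem_bar (x := xb) hx₀) (pr_mem_bar (x := m1b) hm1M)
    have h2 := h₀.toComp.commute_bar hM2.toComp hcon.2 (pr_mem_bar (x := xb) hx₀) (pr_mem_bar (x := m2b) hm2M)
    have h3 : Commute (pr s tb) (pr s xb) := by
      rw [htm, map_mul, map_mul]
      exact (h₀.invol_bar.comm _ (pr_mem_bar (x := xb) hx₀)).mul_left (h2.symm.mul_left h1.symm)
    have h4 : pr s (tb * xb * tb⁻¹) = pr s (xb * self s) := congrArg (pr s) (Subtype.ext ht₀)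
    rw [map_mul, map_mul, map_inv, h3.eq, mul_inv_cancel_right, map_mul] at h4
    exact h₀.invol_bar.ne (mul_eq_left.mp h4.symm)
  have hJM := hmem J x c.hJ hxJ htx
  have hJ'M := hmem J' x' hJ' hx'J htx'
  obtain ⟨a, a', haJ, ha'J, haa, ha'a', hta⟩ : ∃ a a' : C s, (a : G) ∈ J ∧ (a' : G) ∈ J' ∧
      (a : G) * a = s ∧ (a' : G) * a' = s ∧
      pr s tb = pr s (self s) * (pr s a * pr s a') := by
    rcases hJM with h | h
    · have h' : J' = M2 := hJ'M.resolve_left fun e => hJne (h.trans e.symm)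
      exact ⟨m1b, m2b, by rw [h]; exact hm1M, by rw [h']; exact hm2M, hm1sq, hm2sq,
        by rw [htm, map_mul, map_mul, hcomm12.eq]⟩
    · have h' : J' = M := hJ'M.resolve_right fun e => hJne (h.trans e.symm)
      exact ⟨m2b, m1b, by rw [h]; exact hm2M, by rw [h']; exact hm1M, hm2sq, hm1sq,
        by rw [htm, map_mul, map_mul]⟩
  -- `x` and `x'` have order four
  set z := pr s (self s) with hz
  set xb : C s := ⟨x, c.hJ.le hxJ⟩
  set xb' : C s := ⟨x', hJ'.le hx'J⟩
  have hab : pr s a * pr s a = z := by rw [← map_mul]; exact congrArg (pr s) (Subtype.ext haa)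
  have hab' : pr s a' * pr s a' = z := by rw [← map_mul]; exact congrArg (pr s) (Subtype.ext ha'a')
  have hax : pr s a * pr s xb * (pr s a)⁻¹ = pr s xb * z := by
    have h4 : pr s (tb * xb * tb⁻¹) = pr s (xb * self s) := congrArg (pr s) (Subtype.ext htx)
    rw [map_mul, map_mul, map_inv, hta, map_mul] at h4
    have hc1 : Commute (pr s a') (pr s xb) :=
      (c.hJ.toComp.commute_bar hJ'.toComp hJne (pr_mem_bar (x := xb) hxJ) (pr_mem_bar ha'J)).symm
    have hc2 : Commute z (pr s a * pr s xb * (pr s a)⁻¹) :=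
      c.hJ.invol_bar.comm _ (mul_mem (mul_mem (pr_mem_bar haJ) (pr_mem_bar (x := xb) hxJ))
        (inv_mem (pr_mem_bar haJ)))
    rw [← h4, show z * (pr s a * pr s a') * pr s xb * (z * (pr s a * pr s a'))⁻¹ =
      z * (pr s a * (pr s a' * pr s xb * (pr s a')⁻¹) * (pr s a)⁻¹) * z⁻¹ by group,
      hc1.eq, mul_inv_cancel_right, hc2.eq, mul_inv_cancel_right]
  have hxx : x * x = s := by
    obtain ⟨i, hi⟩ := hT.isTwo ⟨x, hxT⟩
    have hi' : x ^ 2 ^ i = 1 := congrArg Subtype.val hi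
    have hib : xb ^ 2 ^ i = 1 := Subtype.ext hi'
    have hxz : Commute z (pr s xb) := c.hJ.invol_bar.comm _ (pr_mem_bar (x := xb) hxJ)
    have hsq : pr s xb * pr s xb = z := by
      refine c.hJ.invol_bar.sq_eq_of_not_commute (pr_mem_bar haJ) hab (pr_mem_bar (x := xb) hxJ)
        (i := i) (by rw [← map_pow, hib, map_one]) ?_ ?_
      · have h2 : pr s a * (pr s xb * pr s xb) * (pr s a)⁻¹ = pr s xb * pr s xb := by
          rw [show pr s a * (pr s xb * pr s xb) * (pr s a)⁻¹ =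
            (pr s a * pr s xb * (pr s a)⁻¹) * (pr s a * pr s xb * (pr s a)⁻¹) by group, hax,
            show pr s xb * z * (pr s xb * z) = pr s xb * (z * pr s xb) * z by group, hxz.eq,
            show pr s xb * (pr s xb * z) * z = pr s xb * pr s xb * (z * z) by group,
            c.hJ.invol_bar.sq, mul_one]
        exact (mul_inv_eq_iff_eq_mul.mp h2).symm
      · intro hc
        rw [hc.symm.eq, mul_inv_cancel_right] at hax
        exact c.hJ.invol_bar.ne (mul_eq_left.mp hax.symm)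
    refine congrArg Subtype.val (eq_of_pr_commute (a := xb * xb) (b := self s) (i := i) (j := 1)
      (Subtype.ext ((hxs.mul_left hxs).eq)) ?_ (Subtype.ext (by simpa [pow_two] using c.hJ.sq)) ?_)
    · rw [(Commute.refl xb).mul_pow, hib, one_mul]
    · rw [map_mul]; exact hsq
  have hx'x' : x' * x' = s := by
    rw [hx'def, show y * x * y⁻¹ * (y * x * y⁻¹) = y * (x * x) * y⁻¹ by group, hxx,
      c.hys.eq, mul_inv_cancel_right]
  have hxx' : Commute x x' := c.hJ.toComp.commute_two hJ'.toComp hJne hT.isTwo hxJ hx'J hxT hx'T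
  have hζζ : ζ * ζ = 1 := by
    rw [hζdef, show x * x' * (x * x') = x * (x' * x) * x' by group, ← hxx'.eq,
      show x * (x * x') * x' = (x * x) * (x' * x') by group, hxx, hx'x', c.hJ.sq]
  -- a conjugate of `t` by an element centralising `s` is `ζ`
  obtain ⟨k, hk, hka⟩ := c.hJ.invol_bar.conj_of_goodQ c.hJ.goodQ (pr_mem_bar haJ) hab
    (pr_mem_bar (x := xb) hxJ) (by rw [← map_mul]; exact congrArg (pr s) (Subtype.ext hxx))
  obtain ⟨k', hk', hka'⟩ := hJ'.invol_bar.conj_of_goodQ hJ'.goodQ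
    (a := z * pr s a') (mul_mem hJ'.invol_bar.mem (pr_mem_bar ha'J))
    (by rw [show z * pr s a' * (z * pr s a') = z * (pr s a' * z) * pr s a' by group,
          ← (hJ'.invol_bar.comm _ (pr_mem_bar ha'J)).eq,
          show z * (z * pr s a') * pr s a' = (z * z) * (pr s a' * pr s a') by group,
          hJ'.invol_bar.sq, hab', one_mul])
    (pr_mem_bar (x := xb') hx'J) (by rw [← map_mul]; exact congrArg (pr s) (Subtype.ext hx'x'))
  obtain ⟨h1, hh1⟩ := pr_surjective s (k * k')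
  have hka2 : Commute k' (pr s a) :=
    (c.hJ.toComp.commute_bar hJ'.toComp hJne (pr_mem_bar haJ) hk').symm
  have hkx' : Commute k (pr s xb') :=
    c.hJ.toComp.commute_bar hJ'.toComp hJne hk (pr_mem_bar (x := xb') hx'J)
  have hconj : pr s (h1 * tb * h1⁻¹) = pr s (xb * xb') := by
    have hzc : Commute z (pr s a) := c.hJ.invol_bar.comm _ (pr_mem_bar haJ)
    rw [map_mul, map_mul, map_inv, hh1, hta, ← mul_assoc z, hzc.eq, mul_assoc (pr s a), map_mul,
      show k * k' * (pr s a * (z * pr s a')) * (k * k')⁻¹ =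
        k * ((k' * pr s a * k'⁻¹) * (k' * (z * pr s a') * k'⁻¹)) * k⁻¹ by group,
      hka', hka2.eq, mul_inv_cancel_right,
      show k * (pr s a * pr s xb') * k⁻¹ = (k * pr s a * k⁻¹) * (k * pr s xb' * k⁻¹) by group,
      hka, hkx'.eq, mul_inv_cancel_right]
  have htb2 : tb * tb = 1 := Subtype.ext c.hK.sq
  have hb3 : h1 * tb * h1⁻¹ * (h1 * tb * h1⁻¹) = 1 := by
    rw [show h1 * tb * h1⁻¹ * (h1 * tb * h1⁻¹) = h1 * (tb * tb) * h1⁻¹ by group, htb2]; group
  obtain ⟨o', -, ho'⟩ := exists_conj_of_pr hb3 (Subtype.ext hζζ : xb * xb' * (xb * xb') = 1) hconj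
  set h : G := ((o' * h1 : C s) : G) with hh
  have hht : h * t * h⁻¹ = ζ := by
    have h2 : (o' * h1) * tb * (o' * h1)⁻¹ = xb * xb' := by rw [← ho']; group
    exact congrArg Subtype.val h2
  have hhs : Commute h s := mem_C.mp (o' * h1).2
  set L := K.map (MulAut.conj h).toMonoidHom with hLdef
  have hL : Good m L ζ := hht ▸ c.hK.conj h
  have hsL : s ∈ normalizer (L : Set G) := by
    rw [mem_normalizer_iff_map_conj_eq, hLdef, map_map]
    conv_rhs => rw [← mem_normalizer_iff_map_conj_eq.mp c.hsK, map_map]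
    congr 1
    ext v
    show s * (h * v * h⁻¹) * s⁻¹ = h * (s * v * s⁻¹) * h⁻¹
    rw [show s * (h * v * h⁻¹) * s⁻¹ = (s * h) * v * (s * h)⁻¹ by group, hhs.symm.eq]
    group
  obtain ⟨E, -, hELL, -, hEmem, -⟩ := exists_E_of_moved c.hK hζt hζζ hζN
  have hζi : ζ⁻¹ = ζ := inv_eq_of_mul_eq_one_right hζζ
  have hy3 : ζ * y * ζ⁻¹ = s * y := by rw [hζi] at hy2 ⊢; exact hy2
  have hstE := hEmem y c.hyK hyy (by
    rw [hy3]; exact c.hys.mul_right (Commute.refl y))
  rw [hy3, show y * (s * y) = (y * s) * y by group, c.hys.eq, mul_assoc, hyy] at hstE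
  have hstN := LL_le_normalizer hL.toComp hζt.symm c.hK.sq ((LL_comm t ζ).le (hELL hstE))
  have htL : t ∈ normalizer (L : Set G) := by
    have := mul_mem hsL hstN
    rwa [← mul_assoc, c.hJ.sq, one_mul] at this
  exact hζN (normalizes_of_normalizes c.hK hL htL)

/-- The configuration does not occur. -/
theorem false (c : Config m J K s t y) : False := by
  haveI : Fact (Nat.Prime 2) := ⟨Nat.prime_two⟩
  have hyp : IsPGroup 2 (zpowers y) := by
    obtain ⟨k, hk⟩ := c.hy2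
    rintro ⟨_, i, rfl⟩
    refine ⟨k, Subtype.ext ?_⟩
    simp only [SubmonoidClass.coe_pow, OneMemClass.coe_one]
    rw [← zpow_natCast, ← zpow_mul, mul_comm, zpow_mul, zpow_natCast, hk, one_zpow]
  obtain ⟨T, hT, hle⟩ := exists_maxTwo hyp (zpowers_le.mpr (mem_C.mpr c.hys))
  have hyT : y ∈ T := hle (mem_zpowers y)
  have htT := c.t_mem hyT
  have hyt := c.commute_yt
  by_cases hall : ∀ x ∈ T, x ∈ J → Commute t x
  swap
  · -- some element is inverted
    push Not at hall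
    obtain ⟨x, hxT, hxJ, hx⟩ := hall
    set r := x⁻¹ * (t * x * t⁻¹) with hr
    have hrJ : r ∈ J := mul_mem (inv_mem hxJ) ((mem_normalizer_iff.mp c.htJ x).mp hxJ)
    have hrT : r ∈ T := mul_mem (inv_mem hxT) (mul_mem (mul_mem htT hxT) (inv_mem htT))
    have hr1 : r ≠ 1 := fun e => hx (mul_inv_eq_iff_eq_mul.mp (inv_mul_eq_one.mp e).symm)
    have htr : t * r * t⁻¹ = r⁻¹ := by
      calc t * r * t⁻¹ = t * x⁻¹ * t * x * (t * t)⁻¹ := by rw [hr]; group
        _ = t * x⁻¹ * t * x := by rw [c.hK.sq]; group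
        _ = t * x⁻¹ * t⁻¹ * x := by rw [inv_eq_of_mul_eq_one_right c.hK.sq]
        _ = _ := by rw [hr]; group
    obtain ⟨k, hk⟩ := hT.isTwo ⟨r, hrT⟩
    by_cases hrs : r = s
    · exact c.false_of_inverted hT hyT hxT hxJ (eq_mul_of_inv_mul_eq hrs)
    obtain ⟨j, hj⟩ := c.hJ.invol.exists_pow_sq_eq hrJ (congrArg Subtype.val hk) hr1 hrs
    refine c.false_of_inverted hT hyT (pow_mem hrT j) (pow_mem hrJ j) ?_
    rw [← conj_pow, htr, inv_pow]
    refine inv_eq_of_mul_eq_one_right ?_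
    rw [← mul_assoc, hj, c.hJ.sq]
  -- `t` centralises `T ∩ J`
  have hsT : s ∈ T := by
    obtain ⟨a, haT, -, haa⟩ := hT.exists_four c.hJ
    exact haa ▸ mul_mem haT haT
  have hPn : T ⊓ normalizer (J : Set G) ≤ normalizer ((T ⊓ J : Subgroup G) : Set G) :=
    le_trans (inf_le_inf_right _ le_normalizer) inf_normalizer_le_normalizer_inf
  obtain ⟨a₀, ha₀T, ha₀J, ha₀⟩ := hT.exists_four c.hJ
  obtain ⟨a, ⟨haT, haJ⟩, haa, hafix⟩ := (c.hJ.invol.mono (M := T ⊓ J) inf_le_right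
    ⟨hsT, c.hJ.mem⟩).exists_four_fixed (hT.isTwo.to_le inf_le_left)
    (inf_le_inf_left T le_normalizer) hPn (fun p hp => mem_C.mp (hT.le hp.1)) ⟨a₀, ⟨ha₀T, ha₀J⟩, ha₀⟩
  obtain ⟨d, hdT, hdJ, hda⟩ := hT.exists_not_commute c.hJ haJ haa
  have hdas : d * a * d⁻¹ = a * s :=
    (hafix d ⟨hdT, le_normalizer hdJ⟩).resolve_left fun e => hda (mul_inv_eq_iff_eq_mul.mp e)
  have hta : Commute t a := hall a haT haJ
  have htd : Commute t d := hall d hdT hdJ
  have hfixa : y * y * a * (y * y)⁻¹ = a := by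
    rcases c.omega hT hyT haT haJ (Or.inl (by rw [hta.eq, mul_inv_cancel_right])) with h | h
    · exact h
    · exfalso
      obtain ⟨hyy, h2, -, -⟩ := h
      rw [hyy, hta.eq, mul_inv_cancel_right] at h2
      exact c.hJ.ne (mul_eq_left.mp h2.symm)
  have hyC : y ∈ C s := mem_C.mpr c.hys
  have hJ' : Good m (J.map (MulAut.conj y).toMonoidHom) s := c.hJ.conj_of_mem hyC
  have hne' : J ≠ J.map (MulAut.conj y).toMonoidHom := fun he =>
    c.hmove (mem_normalizer_iff_map_conj_eq.mpr he.symm)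
  set a' := y * a * y⁻¹ with ha'
  have ha'J : a' ∈ J.map (MulAut.conj y).toMonoidHom := ⟨a, haJ, rfl⟩
  have ha'T : a' ∈ T := mul_mem (mul_mem hyT haT) (inv_mem hyT)
  have haa' : Commute a a' := c.hJ.toComp.commute_two hJ'.toComp hne' hT.isTwo haJ ha'J haT ha'T
  have hda' : Commute d a' := c.hJ.toComp.commute_two hJ'.toComp hne' hT.isTwo hdJ ha'J hdT ha'T
  have has : Commute a s := mem_C.mp (hT.le haT)
  have ha's : Commute a' s := mem_C.mp (hT.le ha'T)
  have ha'a' : a' * a' = s := by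
    rw [ha', show y * a * y⁻¹ * (y * a * y⁻¹) = y * (a * a) * y⁻¹ by group, haa, c.hys.eq,
      mul_inv_cancel_right]
  set η := a⁻¹ * a' with hη
  have hηη : η * η = 1 := by
    rw [hη, show a⁻¹ * a' * (a⁻¹ * a') = a⁻¹ * (a' * a⁻¹) * a' by group, ← haa'.inv_left.eq,
      show a⁻¹ * (a⁻¹ * a') * a' = (a * a)⁻¹ * (a' * a') by group, haa, ha'a', inv_mul_cancel]
  have hη1 : η ≠ 1 := by
    intro e
    have he : a = a' := inv_mul_eq_one.mp e
    obtain ⟨h1, h2⟩ := c.hJ.invol.ne_of_sq haa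
    exact (c.hJ.eq_of_mem_inter hJ'.toComp hne' (k := 2)
      (by rw [show (2 : ℕ) ^ 2 = 2 + 2 from rfl, pow_add, pow_two, haa, c.hJ.sq]) haJ
      (he ▸ ha'J)).elim h1 h2
  have hdη : d * η * d⁻¹ = η * s := by
    calc d * η * d⁻¹ = (d * a * d⁻¹)⁻¹ * (d * a' * d⁻¹) := by rw [hη]; group
      _ = (a * s)⁻¹ * a' := by rw [hdas, hda'.eq, mul_inv_cancel_right]
      _ = s⁻¹ * η := by rw [hη]; group
      _ = _ := by
        rw [inv_eq_of_mul_eq_one_right c.hJ.sq]
        exact ((has.inv_left.symm).mul_right ha's.symm).eq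
  have hat : Commute a t := hta.symm
  have ha't : Commute a' t := by
    have : t * a' * t⁻¹ = a' := by
      calc t * a' * t⁻¹ = (t * y) * a * (t * y)⁻¹ := by rw [ha']; group
        _ = (y * t) * a * (y * t)⁻¹ := by rw [hyt.eq]
        _ = y * (t * a * t⁻¹) * y⁻¹ := by group
        _ = _ := by rw [hta.eq, mul_inv_cancel_right]
    exact (mul_inv_eq_iff_eq_mul.mp this).symm
  have haC : a ∈ C t := mem_C.mpr hat
  have hηC : η ∈ C t := mem_C.mpr (hat.inv_left.mul_left ha't)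
  by_cases haN : a ∈ normalizer (K : Set G)
  · have hηK : η ∈ K := by
      rw [hη, ha', show a⁻¹ * (y * a * y⁻¹) = (a⁻¹ * y * a) * y⁻¹ by group]
      exact mul_mem ((mem_normalizer_iff''.mp haN y).mp c.hyK) (inv_mem c.hyK)
    have hηt : η = t := (c.hK.uniq η hηK hηη).resolve_left hη1
    rw [hηt, htd.symm.eq, mul_inv_cancel_right] at hdη
    exact c.hJ.ne (mul_eq_left.mp hdη.symm)
  set Ka := K.map (MulAut.conj a⁻¹).toMonoidHom with hKadef
  have hKa : Good m Ka t := c.hK.conj_of_mem (inv_mem haC)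
  have hKne : K ≠ Ka := fun he =>
    haN (by simpa using inv_mem (mem_normalizer_iff_map_conj_eq.mpr he.symm))
  set ya := a⁻¹ * y * a with hya
  have hyaK : ya ∈ Ka := ⟨y, c.hyK, by simp [hya]⟩
  have hyaT : ya ∈ T := mul_mem (mul_mem (inv_mem haT) hyT) haT
  have hyya : Commute y ya := c.hK.toComp.commute_two hKa.toComp hKne hT.isTwo c.hyK hyaK hyT hyaT
  have hηy : η = ya * y⁻¹ := by rw [hη, ha', hya]; group
  have hyy : y * y = t := by
    have h1 : ya * ya = y * y := by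
      have h2 := hηη
      rw [hηy, show ya * y⁻¹ * (ya * y⁻¹) = ya * (y⁻¹ * ya) * y⁻¹ by group, hyya.inv_left.eq,
        show ya * (ya * y⁻¹) * y⁻¹ = ya * ya * (y * y)⁻¹ by group, mul_inv_eq_one] at h2
      exact h2
    obtain ⟨i, hi⟩ := c.hy2
    exact (c.hK.eq_of_mem_inter hKa.toComp hKne (k := i)
      (by rw [(Commute.refl y).mul_pow, hi, one_mul]) (mul_mem c.hyK c.hyK)
      (h1 ▸ mul_mem hyaK hyaK)).resolve_left c.hy4
  -- swap the roles
  have c' : Config m K J t s a :=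
    { hJ := c.hK, hK := c.hJ, hst := c.hst.symm, hne := Ne.symm c.hne, hsK := c.htJ, htJ := c.hsK
      hyK := haJ, hys := hat
      hy2 := ⟨2, by rw [show (2 : ℕ) ^ 2 = 2 + 2 from rfl, pow_add, pow_two, haa, c.hJ.sq]⟩
      hy4 := by rw [haa]; exact c.hJ.ne
      hmove := haN
      hfix := by rw [haa]; exact c.hsK }
  obtain ⟨T', hT', hTT'⟩ := exists_maxTwo (hT.isTwo.to_le inf_le_left) (inf_le_right : T ⊓ C t ≤ C t)
  have haT' : a ∈ T' := hTT' ⟨haT, haC⟩
  have hall' : ∀ q ∈ T', q ∈ K → Commute s q := by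
    intro q hqT hqK
    by_contra hsq
    set r := q⁻¹ * (s * q * s⁻¹) with hr
    have hsT' : s ∈ T' := hTT' ⟨hsT, mem_C.mpr c.hst⟩
    have hrK : r ∈ K := mul_mem (inv_mem hqK) ((mem_normalizer_iff.mp c.hsK q).mp hqK)
    have hrT : r ∈ T' := mul_mem (inv_mem hqT) (mul_mem (mul_mem hsT' hqT) (inv_mem hsT'))
    have hr1 : r ≠ 1 := fun e => hsq (mul_inv_eq_iff_eq_mul.mp (inv_mul_eq_one.mp e).symm)
    have hsr : s * r * s⁻¹ = r⁻¹ := by
      calc s * r * s⁻¹ = s * q⁻¹ * s * q * (s * s)⁻¹ := by rw [hr]; group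
        _ = s * q⁻¹ * s * q := by rw [c.hJ.sq]; group
        _ = s * q⁻¹ * s⁻¹ * q := by rw [inv_eq_of_mul_eq_one_right c.hJ.sq]
        _ = _ := by rw [hr]; group
    obtain ⟨k, hk⟩ := hT'.isTwo ⟨r, hrT⟩
    by_cases hrt : r = t
    · exact c'.false_of_inverted hT' haT' hqT hqK (eq_mul_of_inv_mul_eq hrt)
    obtain ⟨j, hj⟩ := c.hK.invol.exists_pow_sq_eq hrK (congrArg Subtype.val hk) hr1 hrt
    refine c'.false_of_inverted hT' haT' (pow_mem hrT j) (pow_mem hrK j) ?_
    rw [← conj_pow, hsr, inv_pow]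
    refine inv_eq_of_mul_eq_one_right ?_
    rw [← mul_assoc, hj, c.hK.sq]
  -- `s` lies in the layer
  set X := ↥(C t) ⧸ Cfsg.pPrimeCore 2 ↥(C t)
  set sb : C t := ⟨s, mem_C.mpr c.hst⟩
  set ηb : C t := ⟨η, hηC⟩
  set db : C t := ⟨d, mem_C.mpr htd.symm⟩
  have hηlay : pr t ηb ∈ Cfsg.layer X := by
    have h1 := CfsgLib.Components.IsComponent.le_layer c.hK.toComp.isComponent
      (pr_mem_bar (x := ⟨y, c.hK.le c.hyK⟩) c.hyK)
    have h2 := CfsgLib.Components.IsComponent.le_layer hKa.toComp.isComponent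
      (pr_mem_bar (x := ⟨ya, hKa.le hyaK⟩) hyaK)
    rw [show ηb = ⟨ya, hKa.le hyaK⟩ * (⟨y, c.hK.le c.hyK⟩ : C t)⁻¹ from Subtype.ext hηy,
      map_mul, map_inv]
    exact mul_mem h2 (inv_mem h1)
  have hslay : pr t sb ∈ Cfsg.layer X := by
    have h1 := (inferInstance : (Cfsg.layer X).Normal).conj_mem _ hηlay (pr t db)
    rw [← map_inv, ← map_mul, ← map_mul,
      show db * ηb * db⁻¹ = ηb * sb from Subtype.ext hdη, map_mul] at h1
    simpa using mul_mem (inv_mem hηlay) h1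
  have hsup : Cfsg.layer X ≤ bar t K ⊔ centralizer (bar t K : Set X) := by
    refine sSup_le fun D hD => ?_
    rcases eq_or_ne D (bar t K) with rfl | hne
    · exact le_sup_left
    · exact le_sup_of_le_right (commutator_eq_bot_iff_le_centralizer.mp
        (CfsgLib.Components.IsComponent.commutator_eq_bot_of_ne hD c.hK.toComp.isComponent hne))
  obtain ⟨r, hr, c₀, hc₀, hrc⟩ :=
    CfsgLib.Coprime.exists_mul_of_mem_sup (centralizer_le_normalizer _) (hsup hslay)
  have hcc : ∀ v ∈ bar t K, Commute c₀ v := fun v hv => (mem_centralizer_iff.mp hc₀ v hv).symm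
  have hrr : r * r = 1 ∨ r * r = pr t (self t) := by
    refine c.hK.center_bar (mul_mem hr hr) fun v hv => ?_
    have h1 : r * r * (c₀ * c₀) = 1 := by
      calc r * r * (c₀ * c₀) = r * (r * c₀) * c₀ := by group
        _ = r * (c₀ * r) * c₀ := by rw [(hcc r hr).eq]
        _ = (r * c₀) * (r * c₀) := by group
        _ = pr t (sb * sb) := by rw [hrc, map_mul]
        _ = 1 := by rw [show sb * sb = 1 from Subtype.ext c.hJ.sq, map_one]
    rw [eq_inv_of_mul_eq_one_left h1]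
    exact ((hcc v hv).mul_left (hcc v hv)).inv_left
  have htriv : r = 1 ∨ r = pr t (self t) → False := by
    intro hr'
    have hcs : ∀ v ∈ bar t K, Commute (pr t sb) v := by
      intro v hv
      rw [← hrc]
      refine Commute.mul_left ?_ (hcc v hv)
      rcases hr' with e | e
      · rw [e]; exact Commute.one_left v
      · rw [e]; exact c.hK.invol_bar.comm v hv
    obtain ⟨E, -, hELL, -, hEmem, -⟩ := exists_E_of_centralized c.hK c.hst c.hJ.sq hcs
    obtain ⟨i, hi⟩ := c.hy2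
    exact c.hmove (LL_le_normalizer c.hJ.toComp c.hst.symm c.hK.sq
      ((LL_comm t s).le (hELL (hEmem y i c.hyK hi c.hys))))
  rcases hrr with h | h
  · exact htriv (c.hK.invol_bar.uniq r hr h)
  · refine hT'.not_central_bar c.hK hr h fun q hqT hqK => ?_
    have h1 : Commute (pr t q) (pr t sb) :=
      ((show Commute sb q from Subtype.ext (hall' q hqT hqK).eq).map (pr t)).symm
    rw [← hrc] at h1
    have h2 : Commute (pr t q) c₀ := (hcc _ (pr_mem_bar hqK)).symm
    simpa using h1.mul_right h2.inv_right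

end Config

/-- 2-elements of `K` of order at least four centralising `z(J)` normalise `J`. -/
theorem normalizes_of_four (hJ : Good m J s) (hK : Good m K t) :
    ∀ (k : ℕ) (y : G), y ∈ K → y ^ 2 ^ k = 1 → y * y ≠ 1 → Commute y s →
      y ∈ normalizer (J : Set G) := by
  haveI : Fact (Nat.Prime 2) := ⟨Nat.prime_two⟩
  intro k
  induction k with
  | zero =>
    intro y _ hy h4
    rw [pow_zero, pow_one] at hy
    exact absurd (by rw [hy, one_mul]) h4
  | succ k ih =>
    intro y hyK hy h4 hys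
    by_contra hmove
    have hyt : Commute y t := mem_C.mp (hK.le hyK)
    have hy' : (y * y) ^ 2 ^ k = 1 := by rw [← pow_two, ← pow_mul, ← pow_succ']; exact hy
    obtain ⟨j, hj⟩ := hK.invol.exists_pow_eq k (mul_mem hyK hyK) hy' h4
    have hst : Commute s t := hj ▸ ((hys.mul_left hys).pow_left _).symm
    by_cases hne : s = t
    · -- both components of `C(s)`
      subst hne
      by_cases hJK : K = J
      · exact hmove (le_normalizer (hJK ▸ hyK))
      apply hmove
      set yb : C s := ⟨y, hK.le hyK⟩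
      have hJy := hJ.conj_of_mem yb.2
      refine mem_normalizer_iff_map_conj_eq.mpr (hJy.toComp.eq_of_bar hJ.toComp ?_)
      show bar s (J.map (MulAut.conj (yb : G)).toMonoidHom) = bar s J
      rw [bar_conj]
      refine mem_normalizer_iff_map_conj_eq.mp (centralizer_le_normalizer _ ?_)
      rintro v hv
      exact (hK.toComp.commute_bar hJ.toComp hJK (pr_mem_bar (x := yb) hyK) hv).symm
    have hsK : s ∈ normalizer (K : Set G) := by
      by_contra hsK
      have hK2 := hK.conj_of_mem (mem_C.mpr hst : s ∈ C t)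
      have hyK2 : y ∈ K.map (MulAut.conj s).toMonoidHom :=
        ⟨y, hyK, by show s * y * s⁻¹ = y; rw [← hys.eq, mul_inv_cancel_right]⟩
      rcases hK.eq_of_mem_inter hK2.toComp
        (fun he => hsK (mem_normalizer_iff_map_conj_eq.mpr he.symm)) hy hyK hyK2 with e | e
      · exact h4 (by rw [e, one_mul])
      · exact h4 (by rw [e, hK.sq])
    have htJ := normalizes_of_normalizes hJ hK hsK
    have hfix : y * y ∈ normalizer (J : Set G) := by
      by_cases h8 : y * y * (y * y) = 1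
      · rw [(hK.uniq _ (mul_mem hyK hyK) h8).resolve_left h4]
        exact htJ
      · exact ih (y * y) (mul_mem hyK hyK) hy' h8 (hys.mul_left hys)
    exact (⟨hJ, hK, hst, hne, hsK, htJ, hyK, hys, ⟨k + 1, hy⟩, h4, hmove, hfix⟩ :
      Config m J K s t y).false

end CfsgLib.IntrinsicSL2
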