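import Cfsg.Agent.IntrinsicSL2.Quasi
import Cfsg.Agent.Coprime.PTimesQ

/-!
# A subgroup with one involution whose elements of order four are conjugate

Elementary facts about a subgroup `L` of a finite group with a unique involution `z`.
-/

set_option autoImplicit false

namespace CfsgLib.IntrinsicSL2

open Subgroup
open scoped commutatorElement

variable {X : Type*} [Group X]

/-- `z` is the only involution of `L`, and is central in `L`. -/
structure Invol (L : Subgroup X) (z : X) : Prop where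
  mem : z ∈ L
  sq : z * z = 1
  ne : z ≠ 1
  uniq : ∀ x ∈ L, x * x = 1 → x = 1 ∨ x = z
  comm : ∀ x ∈ L, Commute z x

variable {L : Subgroup X} {z : X}

theorem Invol.mono (h : Invol L z) {M : Subgroup X} (hle : M ≤ L) (hz : z ∈ M) : Invol M z :=
  ⟨hz, h.sq, h.ne, fun x hx => h.uniq x (hle hx), fun x hx => h.comm x (hle hx)⟩

theorem Invol.inv_eq (h : Invol L z) : z⁻¹ = z := inv_eq_of_mul_eq_one_right h.sq

theorem Invol.ne_of_sq (h : Invol L z) {a : X} (ha : a * a = z) : a ≠ 1 ∧ a ≠ z :=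
  ⟨fun e => h.ne (by rw [← ha, e, one_mul]), fun e => h.ne (by rw [← ha, e, h.sq])⟩

/-- A nontrivial element of `2`-power order of `L` has `z` as a power. -/
theorem Invol.exists_pow_eq (h : Invol L z) :
    ∀ (k : ℕ) {x : X}, x ∈ L → x ^ 2 ^ k = 1 → x ≠ 1 → ∃ j : ℕ, x ^ 2 ^ j = z := by
  intro k
  induction k with
  | zero => intro x _ hk hx; exact absurd (by simpa using hk) hx
  | succ k ih =>
    intro x hxL hk hx
    rcases eq_or_ne (x * x) 1 with h2 | h2
    · exact ⟨0, by simpa using (h.uniq x hxL h2).resolve_left hx⟩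
    obtain ⟨j, hj⟩ := ih (x := x * x) (mul_mem hxL hxL)
      (by rw [← pow_two, ← pow_mul, ← pow_succ']; exact hk) h2
    exact ⟨j + 1, by rw [pow_succ', pow_mul, pow_two]; exact hj⟩

/-- An element of `2`-power order other than `1, z` has a power squaring to `z`. -/
theorem Invol.exists_pow_sq_eq (h : Invol L z) {k : ℕ} {x : X} (hxL : x ∈ L) (hk : x ^ 2 ^ k = 1)
    (h1 : x ≠ 1) (hz : x ≠ z) : ∃ j : ℕ, x ^ j * x ^ j = z := by
  obtain ⟨j, hj⟩ := h.exists_pow_eq k hxL hk h1
  cases j with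
  | zero => exact absurd (by simpa using hj) hz
  | succ j => exact ⟨2 ^ j, by rw [← pow_add, ← two_mul, ← pow_succ']; exact hj⟩

/-- A `2`-element not commuting with an element of order four, whose square does, has order four. -/
theorem Invol.sq_eq_of_not_commute (h : Invol L z) {a w : X} (haL : a ∈ L) (ha : a * a = z)
    (hwL : w ∈ L) {i : ℕ} (hi : w ^ 2 ^ i = 1) (hc : Commute (w * w) a) (hn : ¬ Commute w a) :
    w * w = z := by
  by_contra hne
  have h2 : w * w ≠ 1 := fun e => by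
    rcases h.uniq w hwL e with rfl | rfl
    · exact hn (Commute.one_left a)
    · exact hn (h.comm a haL)
  have hi' : (w * w) ^ 2 ^ i = 1 := by
    rw [(Commute.refl w).mul_pow, hi, one_mul]
  obtain ⟨j, hj⟩ := h.exists_pow_sq_eq (mul_mem hwL hwL) hi' h2 hne
  set u := (w * w) ^ j with hu
  have hua : Commute u a := hc.pow_left j
  have huw : Commute w u := ((Commute.refl w).mul_right (Commute.refl w)).pow_right j
  have hwz : Commute w z := (h.comm w hwL).symm
  have h3 : a * u * (a * u) = 1 := by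
    rw [show a * u * (a * u) = a * (u * a) * u by group, hua.eq,
      show a * (a * u) * u = (a * a) * (u * u) by group, ha, hj, h.sq]
  apply hn
  rcases h.uniq _ (mul_mem haL (pow_mem (mul_mem hwL hwL) j)) h3 with e | e
  · rw [show a = u⁻¹ from eq_inv_of_mul_eq_one_left e]
    exact huw.inv_right
  · rw [show a = z * u⁻¹ from eq_mul_inv_of_mul_eq e]
    exact hwz.mul_right huw.inv_right

variable [Finite X]

theorem Invol.conj_of_goodQ (h : Invol L z) (hQ : GoodQ ↥L) {a b : X} (haL : a ∈ L) (ha : a * a = z)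
    (hbL : b ∈ L) (hb : b * b = z) : ∃ k ∈ L, k * a * k⁻¹ = b := by
  have := hQ.conj ⟨a, haL⟩ ⟨b, hbL⟩ (fun e => h.ne (ha.symm.trans (congrArg Subtype.val e)))
    (Subtype.ext (by show a * a * (a * a) = 1; rw [ha, h.sq]))
    (Subtype.ext (hb.trans ha.symm))
  obtain ⟨k, hk⟩ := isConj_iff.mp this
  exact ⟨k, k.2, congrArg Subtype.val hk⟩

/-- An element of order four is inverted by an element of order four. -/
theorem Invol.exists_inverting (h : Invol L z) (hQ : GoodQ ↥L) {a : X} (haL : a ∈ L)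
    (ha : a * a = z) : ∃ w ∈ L, w * w = z ∧ w * a * w⁻¹ = a * z := by
  have haz : a * z * (a * z) = z := by
    rw [show a * z * (a * z) = a * (z * a) * z by group, (h.comm a haL).eq,
      show a * (a * z) * z = (a * a) * (z * z) by group, ha, h.sq, mul_one]
  obtain ⟨k, hkL, hk⟩ := h.conj_of_goodQ hQ haL ha (mul_mem haL h.mem) haz
  obtain ⟨i, m, hm, hord⟩ := Nat.exists_eq_two_pow_mul_odd (orderOf_pos k).ne'
  have hkz : k * z * k⁻¹ = z := by rw [← (h.comm k hkL).eq, mul_inv_cancel_right]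
  have hstep : ∀ j : ℕ, (k ^ (2 * j)) * a * (k ^ (2 * j))⁻¹ = a := by
    intro j
    induction j with
    | zero => simp
    | succ j ih =>
      rw [show 2 * (j + 1) = 2 * j + 2 from rfl, pow_add, pow_two,
        show k ^ (2 * j) * (k * k) * a * (k ^ (2 * j) * (k * k))⁻¹ =
          k ^ (2 * j) * (k * (k * a * k⁻¹) * k⁻¹) * (k ^ (2 * j))⁻¹ by group, hk,
        show k * (a * z) * k⁻¹ = (k * a * k⁻¹) * (k * z * k⁻¹) by group, hk, hkz, mul_assoc a,
        h.sq, mul_one, ih]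
  obtain ⟨j, rfl⟩ := hm
  refine ⟨k ^ (2 * j + 1), pow_mem hkL _, ?_, ?_⟩
  · refine h.sq_eq_of_not_commute haL ha (pow_mem hkL _) (i := i) ?_ ?_ ?_
    · rw [← pow_mul, mul_comm, ← hord, pow_orderOf_eq_one]
    · rw [← pow_add, ← two_mul]
      exact mul_inv_eq_iff_eq_mul.mp (hstep _)
    · intro hc
      have := hc.eq
      rw [← mul_inv_eq_iff_eq_mul, pow_succ', mul_inv_rev,
        show k * k ^ (2 * j) * a * ((k ^ (2 * j))⁻¹ * k⁻¹) =
          k * (k ^ (2 * j) * a * (k ^ (2 * j))⁻¹) * k⁻¹ by group, hstep, hk] at this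
      exact h.ne (mul_eq_left.mp this)
  · rw [pow_succ', mul_inv_rev,
      show k * k ^ (2 * j) * a * ((k ^ (2 * j))⁻¹ * k⁻¹) =
        k * (k ^ (2 * j) * a * (k ^ (2 * j))⁻¹) * k⁻¹ by group, hstep, hk]

/-- No element of order four of `L` centralises a Sylow 2-subgroup of `L`. -/
theorem Invol.not_central (h : Invol L z) (hQ : GoodQ ↥L) {Q : Subgroup X} (hQL : Q ≤ L)
    (hmax : ∀ R : Subgroup X, R ≤ L → IsPGroup 2 R → Q ≤ R → R = Q) (hQp : IsPGroup 2 Q)
    {a : X} (haL : a ∈ L) (ha : a * a = z) (hc : ∀ q ∈ Q, Commute q a) : False := by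
  haveI : Fact (Nat.Prime 2) := ⟨Nat.prime_two⟩
  obtain ⟨w, hwL, hww, hwa⟩ := h.exists_inverting hQ haL ha
  have hza : Commute z a := h.comm a haL
  have hzinv : z⁻¹ = z := h.inv_eq
  have haz : a * z * z = a := by rw [mul_assoc, h.sq, mul_one]
  let M : Subgroup X :=
    { carrier := {m | m ∈ L ∧ (m * a * m⁻¹ = a ∨ m * a * m⁻¹ = a * z)}
      one_mem' := ⟨one_mem _, Or.inl (by simp)⟩
      mul_mem' := by
        rintro x y ⟨hx, hx'⟩ ⟨hy, hy'⟩
        refine ⟨mul_mem hx hy, ?_⟩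
        have hxz : x * z * x⁻¹ = z := by rw [← (h.comm x hx).eq, mul_inv_cancel_right]
        rw [show x * y * a * (x * y)⁻¹ = x * (y * a * y⁻¹) * x⁻¹ by group]
        rcases hy' with e | e <;> rw [e]
        · exact hx'
        · rw [show x * (a * z) * x⁻¹ = (x * a * x⁻¹) * (x * z * x⁻¹) by group, hxz]
          rcases hx' with e' | e' <;> rw [e']
          · exact Or.inr rfl
          · exact Or.inl haz
      inv_mem' := by
        rintro x ⟨hx, hx'⟩
        refine ⟨inv_mem hx, ?_⟩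
        have hxz : x⁻¹ * z * x = z := by rw [mul_assoc, (h.comm x hx).eq, inv_mul_cancel_left]
        rw [inv_inv]
        rcases hx' with e | e
        · left
          conv_lhs => rw [← e]
          group
        · right
          have : x⁻¹ * (a * z) * x = a := by rw [← e]; group
          rw [show x⁻¹ * (a * z) * x = (x⁻¹ * a * x) * (x⁻¹ * z * x) by group, hxz] at this
          rw [← mul_inv_eq_iff_eq_mul.mpr this.symm, hzinv] }
  have hQM : Q ≤ M := fun q hq =>
    ⟨hQL hq, Or.inl (by rw [(hc q hq).eq, mul_inv_cancel_right])⟩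
  have hwM : w ∈ M := ⟨hwL, Or.inr hwa⟩
  -- `Q` is a Sylow 2-subgroup of `M`
  let S : Sylow 2 ↥M :=
    { toSubgroup := Q.subgroupOf M
      isPGroup' := hQp.comap_subtype
      is_maximal' := by
        intro R hR hle
        have := hmax (R.map M.subtype) (fun x ⟨y, _, hyx⟩ => hyx ▸ y.2.1) (hR.map _)
          (fun q hq => ⟨⟨q, hQM hq⟩, hle hq, rfl⟩)
        ext x
        refine ⟨fun hx => ?_, fun hx => hle hx⟩
        rw [mem_subgroupOf, ← this]
        exact ⟨x, hx, rfl⟩ }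
  have hwp : IsPGroup 2 (zpowers (⟨w, hwM⟩ : M)) := by
    refine IsPGroup.of_card (n := 2) ?_
    rw [Nat.card_zpowers, orderOf_mk]
    refine orderOf_eq_prime_pow (p := 2) (n := 1) ?_ ?_
    · rw [pow_one, pow_two, hww]; exact h.ne
    · rw [show 2 ^ (1 + 1) = 2 + 2 from rfl, pow_add, pow_two, hww, h.sq]
  obtain ⟨S', hS'⟩ := hwp.exists_le_sylow
  obtain ⟨m, hm⟩ := MulAction.exists_smul_eq (↥M) S S'
  have h1 := hS' (mem_zpowers _)
  rw [← hm, Sylow.coe_subgroup_smul, mem_pointwise_smul_iff_inv_smul_mem] at h1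
  have h2 : (m : X)⁻¹ * w * (m : X) ∈ Q := by simpa [S, mem_subgroupOf] using h1
  have h3 := (hc _ h2).eq
  have h4 : w * ((m : X) * a * (m : X)⁻¹) = (m : X) * a * (m : X)⁻¹ * w := by
    calc w * ((m : X) * a * (m : X)⁻¹)
        = (m : X) * (((m : X)⁻¹ * w * (m : X)) * a) * (m : X)⁻¹ := by group
      _ = _ := by rw [h3]; group
  have hwa' : w * a = a * w := by
    rcases m.2.2 with e | e <;> rw [e] at h4
    · exact h4
    · have hwz : Commute w z := (h.comm w hwL).symm
      rw [show w * (a * z) = w * a * z by group, mul_assoc a z w, ← hwz.eq, ← mul_assoc a w z] at h4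
      exact mul_right_cancel h4
  rw [hwa', mul_inv_cancel_right] at hwa
  exact h.ne (mul_eq_left.mp hwa.symm)

/-- A normal subgroup of a 2-group with one involution has an element of order four fixed modulo
the involution. -/
theorem Invol.exists_four_fixed {Q : Subgroup X} (h : Invol Q z) {P : Subgroup X}
    (hP : IsPGroup 2 P) (hQP : Q ≤ P) (hPQ : P ≤ normalizer (Q : Set X))
    (hzP : ∀ p ∈ P, Commute p z) (h4 : ∃ a ∈ Q, a * a = z) :
    ∃ a ∈ Q, a * a = z ∧ ∀ p ∈ P, p * a * p⁻¹ = a ∨ p * a * p⁻¹ = a * z := by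
  haveI : Fact (Nat.Prime 2) := ⟨Nat.prime_two⟩
  suffices H : ∀ (n : ℕ) (M : Subgroup X), Nat.card M = n → M ≤ Q → P ≤ normalizer (M : Set X) →
      (∃ m ∈ M, m ≠ 1 ∧ m ≠ z) → ∃ a ∈ Q, a * a = z ∧ ∀ p ∈ P, p * a * p⁻¹ = a ∨ p * a * p⁻¹ = a * z by
    obtain ⟨a, ha, haa⟩ := h4
    exact H _ Q rfl le_rfl hPQ ⟨a, ha, h.ne_of_sq haa⟩
  intro n
  induction n using Nat.strong_induction_on with
  | _ n ih =>
  intro M hn hMQ hPM ⟨m, hm, hm1, hmz⟩
  have hMp : IsPGroup 2 M := hP.to_le (hMQ.trans hQP)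
  by_cases hcase : ∃ x ∈ ⁅M, P⁆, x ≠ 1 ∧ x ≠ z
  · have hne : M ≠ ⊥ := fun e => hm1 (mem_bot.mp (e ▸ hm))
    have hlt := CfsgLib.Coprime.commutator_lt_of_isPGroup hMp hP hPM hne
    refine ih _ ?_ _ rfl (hlt.le.trans hMQ) (normalizer_commutator_ge_right M P) hcase
    rw [← hn]
    by_contra hge
    push Not at hge
    exact hlt.ne (eq_of_le_of_card_ge hlt.le hge)
  push Not at hcase
  obtain ⟨k, hk⟩ := hMp ⟨m, hm⟩
  obtain ⟨j, hj⟩ := h.exists_pow_sq_eq (hMQ hm) (congrArg Subtype.val hk) hm1 hmz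
  refine ⟨m ^ j, pow_mem (hMQ hm) j, hj, fun p hp => ?_⟩
  have hmem : ⁅m ^ j, p⁆ ∈ ⁅M, P⁆ := commutator_mem_commutator (pow_mem hm j) hp
  have h5 : p * m ^ j * p⁻¹ = ⁅m ^ j, p⁆⁻¹ * m ^ j := by rw [commutatorElement_def]; group
  by_cases hc1 : ⁅m ^ j, p⁆ = 1
  · left; rw [h5, hc1, inv_one, one_mul]
  · right
    rw [h5, hcase _ hmem hc1, h.inv_eq, (h.comm _ (pow_mem (hMQ hm) j)).eq]

end CfsgLib.IntrinsicSL2
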