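import Cfsg.Prelude.Def_KGroupFacts
import Cfsg.Prelude.Def_SporadicB
import Cfsg.Agent.Inv53.SL2Involutions
import Cfsg.Agent.SL2Tori.SylowTwo
import Cfsg.Agent.AltDoubleCoverInvol.Basic
import Cfsg.Agent.AutAlt.Basic
import Cfsg.Agent.OutPSL.Basic

/-!
# The groups `SL(2, q)`, `q` odd, and `2·A₇` as groups with one involution

`GoodQ Q` records what is used of these groups: centre of order two, unique involution, one class
of elements of order four, solvable outer automorphism group of the central quotient.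
-/

set_option autoImplicit false

namespace CfsgLib.IntrinsicSL2

open Subgroup

universe u v

/-- The properties of `SL(2, q)` and `2·A₇` that are used. -/
structure GoodQ (Q : Type u) [Group Q] : Prop where
  center_card : Nat.card (center Q) = 2
  uniq : ∀ a b : Q, a * a = 1 → a ≠ 1 → b * b = 1 → b ≠ 1 → a = b
  four : ∃ a : Q, a * a ≠ 1 ∧ a * a * (a * a) = 1
  conj : ∀ a b : Q, a * a ≠ 1 → a * a * (a * a) = 1 → b * b = a * a → IsConj a b
  out : Group.IsSolvable (Cfsg.Out (Q ⧸ center Q))

theorem isSolvable_out_congr {A : Type u} {B : Type v} [Group A] [Group B] (e : A ≃* B)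
    (h : Group.IsSolvable (Cfsg.Out A)) : Group.IsSolvable (Cfsg.Out B) := by
  let c := MulAut.congr e
  have hle : Cfsg.Inn A ≤ (Cfsg.Inn B).comap c.toMonoidHom := by
    rintro _ ⟨a, rfl⟩
    refine ⟨e a, ?_⟩
    ext b
    simp [c, MulAut.congr]
  refine Group.isSolvable_of_surjective
    (f := QuotientGroup.map (Cfsg.Inn A) (Cfsg.Inn B) c.toMonoidHom hle) ?_
  intro x
  obtain ⟨x, rfl⟩ := QuotientGroup.mk'_surjective _ x
  obtain ⟨y, rfl⟩ := c.surjective x
  exact ⟨QuotientGroup.mk y, rfl⟩

theorem map_center_equiv {A : Type u} {B : Type v} [Group A] [Group B] (e : A ≃* B) :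
    (center A).map e.toMonoidHom = center B := by
  ext x
  simp only [mem_map, mem_center_iff]
  constructor
  · rintro ⟨a, ha, rfl⟩ g
    simpa using congrArg e (ha (e.symm g))
  · intro hx
    exact ⟨e.symm x, fun g => e.injective (by simpa using hx (e g)), by simp⟩

theorem GoodQ.congr {A : Type u} {B : Type v} [Group A] [Group B] (e : A ≃* B) (h : GoodQ A) :
    GoodQ B where
  center_card := by
    rw [← h.center_card, ← map_center_equiv e, card_map_of_injective e.injective]
  uniq a b ha ha1 hb hb1 := by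
    apply e.symm.injective
    refine h.uniq _ _ ?_ ?_ ?_ ?_
    · rw [← map_mul, ha, map_one]
    · exact fun h => ha1 (e.symm.injective (h.trans (map_one _).symm))
    · rw [← map_mul, hb, map_one]
    · exact fun h => hb1 (e.symm.injective (h.trans (map_one _).symm))
  four := by
    obtain ⟨a, h1, h2⟩ := h.four
    refine ⟨e a, fun h => h1 (e.injective ?_), ?_⟩
    · rw [map_mul, h, map_one]
    · rw [← map_mul, ← map_mul, h2, map_one]
  conj a b h1 h2 h3 := by
    have := h.conj (e.symm a) (e.symm b) (fun h => h1 (e.symm.injective ?_))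
      (by rw [← map_mul, ← map_mul, h2, map_one]) (by rw [← map_mul, h3, map_mul])
    · obtain ⟨k, hk⟩ := isConj_iff.1 this
      refine isConj_iff.2 ⟨e k, e.symm.injective ?_⟩
      simpa using hk
    · rw [map_mul, h, map_one]
  out := isSolvable_out_congr
    (QuotientGroup.congr (center A) (center B) e (map_center_equiv e)) h.out

section SL2

open Matrix
open scoped MatrixGroups

variable {F : Type} [Field F] [Fintype F]

theorem isSolvable_out_psl :
    Group.IsSolvable (Cfsg.Out (Matrix.ProjectiveSpecialLinearGroup (Fin 2) F)) := by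
  obtain ⟨p, hp⟩ := CharP.exists F
  obtain ⟨f, hpp, hF⟩ := FiniteField.card F p
  haveI : Fact p.Prime := ⟨hpp⟩
  have hf : 1 ≤ (f : ℕ) := f.2
  obtain ⟨π, hπ, hker⟩ := OutPSL.exists_proj p (1 : Unit →* MulAut (Matrix.SpecialLinearGroup (Fin 2) F))
    (fun β => by
      obtain ⟨g, σ, γ, hγ, rfl⟩ := AutPSL.exists_form (le_refl 2) β
      rcases hγ with rfl | rfl
      · exact ⟨g, σ, (), by simp⟩
      · obtain ⟨w, hw⟩ := AutPSL.invTransSL_fin_two (F := F)
        refine ⟨g * AutPSL.mapGL σ w, σ, (), ?_⟩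
        rw [hw, mul_assoc, AutPSL.fieldSL_mul_conjSL, ← mul_assoc, ← map_mul]
        simp)
    (fun {g g' σ σ' e e'} h => by
      simp only [MonoidHom.one_apply, mul_one] at h
      exact ⟨(AutPSL.semilinear_unique h).1, rfl⟩)
    (fun e g => ⟨g, by simp⟩) (fun e σ => by simp)
  obtain ⟨e1⟩ := OutPSL.exists_ringEquiv_mulEquiv (F := F) hF hf
  obtain ⟨φ, -, hcyc, -⟩ := OutPSL.exists_out_hom p (MulEquiv.prodUnique.trans e1) π hπ hker
  haveI := hcyc
  haveI : Group.IsSolvable φ.ker := Group.isSolvable_of_comm fun a b => by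
    obtain ⟨g, hg⟩ := IsCyclic.exists_generator (α := φ.ker)
    obtain ⟨i, rfl⟩ := hg a
    obtain ⟨j, rfl⟩ := hg b
    exact zpow_mul_comm g i j
  exact Group.isSolvable_of_ker_le_range φ.ker.subtype φ (by rw [range_subtype])

theorem goodQ_sl2 (hodd : Odd (Fintype.card F)) : GoodQ SL(2, F) := by
  have h2 : (2 : F) ≠ 0 := by
    refine Ring.two_ne_zero fun h => ?_
    have := FiniteField.even_card_of_char_two h
    rw [Nat.odd_iff] at hodd; omega
  have hsq : ∀ a : SL(2, F), a * a ≠ 1 → a * a * (a * a) = 1 → a * a = -1 := fun a h1 h4 =>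
    (SL2Tori.eq_one_or_neg_one_of_sq h2 h4).resolve_left h1
  have hne : (1 : SL(2, F)) ≠ -1 := by
    intro h
    have := congrFun (congrFun (congrArg Subtype.val h) 0) 0
    simp at this
    exact h2 (by linear_combination this)
  refine ⟨?_, ?_, ?_, ?_, ?_⟩
  · show Nat.card ↥((center SL(2, F) : Subgroup SL(2, F)) : Set SL(2, F)) = 2
    rw [Nat.card_coe_set_eq,
      show ((center SL(2, F) : Subgroup SL(2, F)) : Set SL(2, F)) = {1, -1} from
        Set.ext fun g => SL2Trace.mem_center_iff_eq g, Set.ncard_pair hne]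
  · intro a b ha ha1 hb hb1
    rw [(SL2Tori.eq_one_or_neg_one_of_sq h2 ha).resolve_left ha1,
      (SL2Tori.eq_one_or_neg_one_of_sq h2 hb).resolve_left hb1]
  · obtain ⟨x, hx'⟩ : ∃ x : SL(2, F), (x : Matrix (Fin 2) (Fin 2) F) = !![0, 1; -1, 0] :=
      ⟨⟨!![0, 1; -1, 0], by simp [Matrix.det_fin_two]⟩, rfl⟩
    refine ⟨x, ?_⟩
    have hx : x * x = -1 := by
      rw [Inv53.sl2_coe_sq, Inv53.sl2_trace_zero_iff h2, hx']
      simp [Matrix.trace_fin_two]
    rw [hx]
    exact ⟨hne.symm, by simp⟩
  · intro a b h1 h4 hb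
    have h := hsq a h1 h4
    exact Inv53.sl2_isConj h2 h (hb.trans h)
  · exact isSolvable_out_psl

end SL2

section Alt

open Equiv Equiv.Perm AltDoubleCoverInvol

theorem isSolvable_out_alt7 : Group.IsSolvable (Cfsg.Out (alternatingGroup (Fin 7))) := by
  let ψ : Perm (Fin 7) →* Cfsg.Out (alternatingGroup (Fin 7)) :=
    (QuotientGroup.mk' _).comp MulAut.conjNormal
  have hsurj : Function.Surjective ψ := (QuotientGroup.mk'_surjective _).comp
    (AutAlt.conjNormal_bijective (α := Fin 7) (by simp) (by simp)).surjective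
  have hker : ∀ σ ∈ alternatingGroup (Fin 7), ψ σ = 1 := by
    intro σ hσ
    show QuotientGroup.mk (MulAut.conjNormal σ) = (1 : Cfsg.Out _)
    rw [QuotientGroup.eq_one_iff]
    refine ⟨⟨σ, hσ⟩, ?_⟩
    ext g
    simp
  refine Group.isSolvable_of_comm fun x y => ?_
  obtain ⟨σ, rfl⟩ := hsurj x
  obtain ⟨τ, rfl⟩ := hsurj y
  have h := hker (σ * τ * σ⁻¹ * τ⁻¹) (by
    rw [mem_alternatingGroup]
    simp [mul_comm, mul_assoc, mul_left_comm])
  simp only [map_mul, map_inv] at h
  rwa [mul_inv_eq_one, mul_inv_eq_iff_eq_mul] at h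

theorem goodQ_double {Q : Type u} [Group Q] [Finite Q]
    (h : Cfsg.IsNonsplitDoubleCover Q (alternatingGroup (Fin 7)))
    (huniq : ∀ a b : Q, a * a = 1 → a ≠ 1 → b * b = 1 → b ≠ 1 → a = b) : GoodQ Q := by
  obtain ⟨hc, ⟨e⟩, -⟩ := h
  obtain ⟨z, hz, hz1⟩ : ∃ z ∈ center Q, z ≠ 1 := by
    by_contra hcon
    push Not at hcon
    rw [show center Q = ⊥ from eq_bot_iff.mpr fun x hx => mem_bot.mpr (hcon x hx), card_bot] at hc
    omega
  have hzz : z * z = 1 := by
    have := pow_card_eq_one' (G := center Q) (x := ⟨z, hz⟩)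
    rw [hc, sq] at this
    exact congrArg Subtype.val this
  have hmem : ∀ g, g ∈ center Q → g = 1 ∨ g = z := by
    intro g hg
    by_cases hg1 : g = 1
    · exact Or.inl hg1
    refine Or.inr (huniq g z ?_ hg1 hzz hz1)
    have := pow_card_eq_one' (G := center Q) (x := ⟨g, hg⟩)
    rw [hc, sq] at this
    exact congrArg Subtype.val this
  set f : Q →* alternatingGroup (Fin 7) := e.toMonoidHom.comp (QuotientGroup.mk' (center Q)) with hf
  have hker : ∀ g, f g = 1 ↔ g ∈ center Q := fun g => by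
    simp [hf]
  have C : Cov f z := ⟨e.surjective.comp (QuotientGroup.mk'_surjective _),
    fun g => (mem_center_iff.mp hz g), hz1, hzz, fun g hg => hmem g ((hker g).mp hg),
    (hker z).mpr hz⟩
  have lift_sq : ∀ w : Q, f w * f w = 1 → f w ≠ 1 → w * w = z := by
    intro w hw hw1
    refine (C.ker _ (by rw [map_mul, hw])).resolve_left fun hww => hw1 ?_
    by_cases h1 : w = 1
    · rw [h1, map_one]
    · rw [huniq w z hww h1 hzz hz1, C.map_z]
  have hV : [(0 : Fin 7), 1, 2, 3].Nodup := by decide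
  have hW : [(0 : Fin 7), 2, 1, 3].Nodup := by decide
  obtain ⟨U, hU⟩ := C.surj ⟨_, dt_mem hV⟩
  obtain ⟨V, hV'⟩ := C.surj ⟨_, dt_mem hW⟩
  have hU1 : f U ≠ 1 := fun h => by
    rw [hU, Subtype.ext_iff] at h; simp only [OneMemClass.coe_one] at h; revert h; decide
  have hV1 : f V ≠ 1 := fun h => by
    rw [hV', Subtype.ext_iff] at h; simp only [OneMemClass.coe_one] at h; revert h; decide
  have hUU : f U * f U = 1 := by rw [hU, Subtype.ext_iff, Subgroup.coe_mul]; simp only [OneMemClass.coe_one]; decide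
  have hVV : f V * f V = 1 := by rw [hV', Subtype.ext_iff, Subgroup.coe_mul]; simp only [OneMemClass.coe_one]; decide
  have hUV : f U * f V = f V * f U := by
    rw [hU, hV', Subtype.ext_iff, Subgroup.coe_mul, Subgroup.coe_mul]; dsimp only; decide
  have hUV1 : f (U * V) ≠ 1 := fun h => by
    rw [map_mul, hU, hV', Subtype.ext_iff] at h; simp only [Subgroup.coe_mul, OneMemClass.coe_one] at h; revert h; decide
  have hanti : V * U * V⁻¹ = U * z := by
    rcases C.eq_or (g := V * U * V⁻¹) (h := U) (by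
      rw [map_mul, map_mul, map_inv, ← hUV, mul_inv_cancel_right]) with hh | hh
    · exfalso
      have hc : U * V = V * U := (mul_inv_eq_iff_eq_mul.mp hh).symm
      have hsq : U * V * (U * V) = 1 := by
        rw [show U * V * (U * V) = U * (V * U) * V by group, ← hc,
          show U * (U * V) * V = (U * U) * (V * V) by group, lift_sq U hUU hU1, lift_sq V hVV hV1,
          hzz]
      have hsq' : f (U * V) * f (U * V) = 1 := by rw [← map_mul, hsq, map_one]
      exact hz1 ((lift_sq _ hsq' hUV1).symm.trans hsq)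
    · exact hh
  refine ⟨hc, huniq, ⟨U, ?_, ?_⟩, ?_, ?_⟩
  · rw [lift_sq U hUU hU1]; exact hz1
  · rw [lift_sq U hUU hU1, hzz]
  · have key : ∀ a : Q, a * a = z → IsConj U a := by
      intro a ha
      have ha2 : f a * f a = 1 := by rw [← map_mul, ha, C.map_z]
      have ha1 : f a ≠ 1 := fun hfa => by
        rcases C.ker a hfa with rfl | rfl
        · exact hz1 (ha.symm.trans (mul_one 1))
        · exact hz1 (ha.symm.trans hzz)
      obtain ⟨t, ht⟩ := isConj_iff.mp
        (isConj_dt hV (cycleType_of_invol le_rfl ha2 ha1)).symm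
      obtain ⟨T, rfl⟩ := C.surj t
      rcases C.eq_or (g := a) (h := T * U * T⁻¹) (by
        rw [map_mul, map_mul, map_inv, hU, ht]) with e1 | e1
      · exact isConj_iff.mpr ⟨T, e1.symm⟩
      · refine isConj_iff.mpr ⟨T * V, ?_⟩
        rw [e1, show T * V * U * (T * V)⁻¹ = T * (V * U * V⁻¹) * T⁻¹ by group, hanti, ← mul_assoc T,
          mul_assoc _ z, ← C.central, ← mul_assoc]
    intro a b h1 h4 hb
    have ha : a * a = z := huniq _ _ h4 h1 hzz hz1
    exact (key a ha).symm.trans (key b (hb.trans ha))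
  · exact isSolvable_out_congr e.symm isSolvable_out_alt7

end Alt

end CfsgLib.IntrinsicSL2
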