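import Cfsg.Agent.IntrinsicSL2.Layer

/-!
# If `z(J)` normalises `K` then `z(K)` normalises `J`

Part (ii) of Aschbacher's lemma on intrinsic `SL(2, q)` and `2·A₇` 2-components.
-/

set_option autoImplicit false

namespace CfsgLib.IntrinsicSL2

open Subgroup
open scoped commutatorElement

universe u

variable {G : Type u} [Group G] [Finite G] {m : ℕ} {J K L : Subgroup G} {s t e f : G}

theorem Good.commute_of_normalizes (hK : Good m K t) (hs : s ∈ normalizer (K : Set G)) :
    Commute s t := by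
  have h1 : s * t * s⁻¹ ∈ K := (mem_normalizer_iff.mp hs t).mp hK.mem
  rcases hK.uniq _ h1 (by rw [show s * t * s⁻¹ * (s * t * s⁻¹) = s * (t * t) * s⁻¹ by group, hK.sq]; group)
    with h | h
  · exact absurd (by simpa using h : t = 1) hK.ne
  · exact mul_inv_eq_iff_eq_mul.mp h

theorem map_conj_C (e g : G) : (C e).map (MulAut.conj g).toMonoidHom = C (g * e * g⁻¹) := by
  ext x
  constructor
  · rintro ⟨y, hy, rfl⟩
    refine mem_C.mpr ?_
    show g * y * g⁻¹ * (g * e * g⁻¹) = g * e * g⁻¹ * (g * y * g⁻¹)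
    rw [show g * y * g⁻¹ * (g * e * g⁻¹) = g * (y * e) * g⁻¹ by group, (mem_C.mp hy).eq]
    group
  · intro hx
    refine ⟨g⁻¹ * x * g, mem_C.mpr ?_, by simp [mul_assoc]⟩
    show g⁻¹ * x * g * e = e * (g⁻¹ * x * g)
    rw [show g⁻¹ * x * g * e = g⁻¹ * (x * (g * e * g⁻¹)) * g by group, (mem_C.mp hx).eq]
    group

theorem pr_conj_eq_one {e' g : G} (he' : g * e * g⁻¹ = e') {v : C e} (hv : pr e v = 1)
    {v' : C e'} (hv' : (v' : G) = g * (v : G) * g⁻¹) : pr e' v' = 1 := by
  subst he'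
  have h := CfsgLib.PLocal.map_pPrimeCore_equiv (p := 2)
    (((MulAut.conj g).subgroupMap (C e)).trans (MulEquiv.subgroupCongr (map_conj_C e g)))
  refine (QuotientGroup.eq_one_iff v').mpr ?_
  rw [← h]
  exact ⟨v, (QuotientGroup.eq_one_iff v).mp hv, Subtype.ext hv'.symm⟩

theorem map_conj_bar (x : C e) (hx : (x : G) ∈ normalizer (K : Set G)) :
    pr e x ∈ normalizer (bar e K : Set _) := by
  refine mem_normalizer_iff_map_conj_eq.mpr ((bar_conj (K := K) x).symm.trans ?_)
  exact congrArg (bar e) (mem_normalizer_iff_map_conj_eq.mp hx)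

theorem Good.not_mem_center_of_four (h : Good m J s) {a : ↥(C s) ⧸ Cfsg.pPrimeCore 2 ↥(C s)}
    (ha : a ∈ bar s J) (haa : a * a = pr s (self s)) (hc : ∀ x ∈ bar s J, Commute a x) : False := by
  obtain ⟨h1, h2⟩ := h.invol_bar.ne_of_sq haa
  exact (h.center_bar ha hc).elim h1 h2

/-- A component centralised by `f` lifts to a perfect subgroup of the 2-layer of `C(e, f)`. -/
theorem exists_E_of_centralized (h : Good m L e) (hfe : Commute f e) (hf2 : f * f = 1)
    (hc : ∀ x ∈ bar e L, Commute (pr e ⟨f, mem_C.mpr hfe⟩) x) :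
    ∃ E : Subgroup G, E ≤ C e ⊓ C f ∧ E ≤ LL e f ∧ ⁅E, E⁆ = E ∧
      (∀ (x : G) (k : ℕ), x ∈ L → x ^ 2 ^ k = 1 → Commute x f → x ∈ E) ∧
      (∀ {M : Type u} [Group M] (g : ↥E →* M), g ≠ 1 → m ≤ Nat.card g.range) := by
  have hle : bar e L ≤ centralizer {pr e ⟨f, mem_C.mpr hfe⟩} := fun x hx =>
    mem_centralizer_singleton_iff.mpr (hc x hx).eq.symm
  have h2 : 2 ∣ Nat.card ↥(bar e L) := by
    have ho : orderOf (⟨pr e (self e), pr_mem_bar h.mem⟩ : bar e L) = 2 := by
      refine orderOf_eq_prime (Subtype.ext ?_) fun he => h.invol_bar.ne (congrArg Subtype.val he)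
      simpa [pow_two] using h.invol_bar.sq
    refine ho.symm.dvd.trans ?_
    exact orderOf_dvd_natCard _
  obtain ⟨E, hE1, hE2, hE3, hE4, hE5⟩ := exists_component_over hfe hf2 _ hle
    (CfsgLib.Components.IsComponent.subgroupOf h.toComp.isComponent hle) h2
  exact ⟨E, hE1, hE2, hE3, fun x k hx hk hxf =>
    hE4 ⟨x, h.le hx⟩ k hxf (Subtype.ext hk) (pr_mem_bar hx),
    fun g hg => h.index_bar ▸ hE5 g hg⟩

/-- A component moved by `f` gives a diagonal subgroup of the 2-layer of `C(e, f)`. -/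
theorem exists_E_of_moved (h : Good m L e) (hfe : Commute f e) (hf2 : f * f = 1)
    (hmove : f ∉ normalizer (L : Set G)) :
    ∃ E : Subgroup G, E ≤ C e ⊓ C f ∧ E ≤ LL e f ∧ ⁅E, E⁆ = E ∧
      (∀ x : G, x ∈ L → x * x = e → Commute x (f * x * f⁻¹) → x * (f * x * f⁻¹) ∈ E) ∧
      (∀ {M : Type u} [Group M] (g : ↥E →* M), g ≠ 1 → m ≤ Nat.card g.range) := by
  haveI : Fact (Nat.Prime 2) := ⟨Nat.prime_two⟩
  set f' : C e := ⟨f, mem_C.mpr hfe⟩
  have hne' : L.map (MulAut.conj (f' : G)).toMonoidHom ≠ L := fun he =>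
    hmove (mem_normalizer_iff_map_conj_eq.mpr he)
  have hL' := h.toComp.conj_of_mem f'.2
  have hbne : (bar e L).map (MulAut.conj (pr e f')).toMonoidHom ≠ bar e L := fun he =>
    hne' (hL'.eq_of_bar h.toComp (by rw [bar_conj]; exact he))
  have hf'2 : f' * f' = 1 := Subtype.ext hf2
  have hford : orderOf (pr e f') = 2 := by
    refine orderOf_eq_prime (by rw [pow_two, ← map_mul, hf'2, map_one]) fun he => hmove ?_
    have := congrArg Subtype.val (eq_one_of_pr (k := 1) he (by rw [pow_one, pow_two, hf'2]))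
    simp only [f', OneMemClass.coe_one] at this
    exact this ▸ one_mem _
  obtain ⟨D, hDY, hD, hind, hmem⟩ := exists_diagonal hford h.toComp.isComponent hbne
  have heven : 2 ∣ Nat.card ↥D := by
    obtain ⟨a, ha1, ha2⟩ := h.goodQ.four
    have haa : (a : ↥(C e) ⧸ Cfsg.pPrimeCore 2 ↥(C e)) * (a : ↥(C e) ⧸ Cfsg.pPrimeCore 2 ↥(C e)) =
        pr e (self e) :=
      (h.invol_bar.uniq _ (mul_mem a.2 a.2) (congrArg Subtype.val ha2)).resolve_left
        fun he => ha1 (Subtype.ext he)
    set b := pr e f' * (a : ↥(C e) ⧸ _) * (pr e f')⁻¹ with hb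
    have hbL : b ∈ bar e (L.map (MulAut.conj (f' : G)).toMonoidHom) := by
      rw [bar_conj]; exact ⟨a, a.2, rfl⟩
    have hab := h.toComp.commute_bar hL' (Ne.symm hne') a.2 hbL
    have hfz : pr e f' * pr e (self e) * (pr e f')⁻¹ = pr e (self e) := by
      rw [← map_mul, ← map_inv, ← map_mul]
      exact congrArg (pr e) (Subtype.ext (mul_inv_eq_iff_eq_mul.mpr hfe.eq))
    have hbb : b * b = pr e (self e) := by
      rw [hb, show ∀ p q : ↥(C e) ⧸ Cfsg.pPrimeCore 2 ↥(C e),
        p * q * p⁻¹ * (p * q * p⁻¹) = p * (q * q) * p⁻¹ from fun p q => by group, haa, hfz]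
    have ho : orderOf (⟨(a : ↥(C e) ⧸ _) * b, hmem _ a.2⟩ : D) = 2 := by
      refine orderOf_eq_prime (Subtype.ext ?_) fun he => ?_
      · show ((a : ↥(C e) ⧸ _) * b) ^ 2 = 1
        rw [hab.mul_pow, pow_two, pow_two, haa, hbb, h.invol_bar.sq]
      · have hbe : b = (a : ↥(C e) ⧸ _)⁻¹ :=
          eq_inv_of_mul_eq_one_right (congrArg Subtype.val he)
        refine h.not_mem_center_of_four a.2 haa fun x hx => ?_
        have := (h.toComp.commute_bar hL' (Ne.symm hne') hx hbL).symm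
        rw [hbe] at this
        exact Commute.inv_left_iff.mp this
    refine ho.symm.dvd.trans ?_
    exact orderOf_dvd_natCard _
  obtain ⟨E, hE1, hE2, hE3, hE4, hE5⟩ := exists_component_over hfe hf2 D hDY hD heven
  refine ⟨E, hE1, hE2, hE3, fun x hx hxx hc => ?_, fun g hg =>
    (h.index_bar.ge.trans hind).trans (hE5 g hg)⟩
  have hfx : f * (x * (f * x * f⁻¹)) * f⁻¹ = x * (f * x * f⁻¹) := by
    have hfi : f⁻¹ = f := inv_eq_of_mul_eq_one_right hf2
    calc f * (x * (f * x * f⁻¹)) * f⁻¹ = (f * x * f⁻¹) * ((f * f) * x * (f * f)⁻¹) := by group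
      _ = (f * x * f⁻¹) * x := by rw [hf2]; group
      _ = _ := hc.eq.symm
  have hpow : (x * (f * x * f⁻¹)) ^ 2 ^ 1 = 1 := by
    rw [pow_one, hc.mul_pow, pow_two, pow_two, hxx,
      show f * x * f⁻¹ * (f * x * f⁻¹) = f * (x * x) * f⁻¹ by group, hxx,
      mul_inv_eq_iff_eq_mul.mpr hfe.eq, h.sq]
  set xb : C e := ⟨x, h.le hx⟩
  exact hE4 (xb * (f' * xb * f'⁻¹)) 1 (mul_inv_eq_iff_eq_mul.mp hfx).symm
    (Subtype.ext hpow) (by rw [map_mul, map_mul, map_mul, map_inv]; exact hmem _ (pr_mem_bar hx))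

/-- Either `E` centralises `J̄`, or the element commuting with `E` does. -/
theorem Good.centralizes_or (h : Good m J s) {E : Subgroup G} (hEC : E ≤ C s) (hE : ⁅E, E⁆ = E)
    (hEN : E ≤ normalizer (J : Set G))
    (hcard : ∀ {M : Type u} [Group M] (g : ↥E →* M), g ≠ 1 → m ≤ Nat.card g.range)
    (σ : C s) (hσN : (σ : G) ∈ normalizer (J : Set G)) (hσE : ∀ x ∈ E, Commute (σ : G) x) :
    (∀ x : C s, (x : G) ∈ E → ∀ y ∈ bar s J, Commute (pr s x) y) ∨
      ∀ y ∈ bar s J, Commute (pr s σ) y := by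
  set P := bar s E with hP
  have hPperf : ⁅P, P⁆ = P := by
    rw [hP, bar, ← map_commutator]
    congr 1
    apply map_injective (C s).subtype_injective
    rw [map_commutator, map_subgroupOf_eq_of_le hEC, hE]
  have hPN : P ≤ normalizer (bar s J : Set _) := by
    rintro _ ⟨x, hx, rfl⟩
    exact map_conj_bar x (hEN hx)
  have hcomm : ∀ p ∈ P, Commute (pr s σ) p := by
    rintro _ ⟨x, hx, rfl⟩
    exact (show Commute σ x from Subtype.ext (hσE _ hx).eq).map (pr s)
  have hc' : ∀ g : ↥P →* MulAut ↥(bar s J), g ≠ 1 → (center ↥(bar s J)).index ≤ Nat.card g.range := by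
    intro g hg
    rw [h.index_bar]
    let φ : ↥E →* ↥P := ((pr s).subgroupMap (E.subgroupOf (C s))).comp
      (subgroupOfEquivOfLe hEC).symm.toMonoidHom
    have hφ : Function.Surjective φ :=
      ((pr s).subgroupMap_surjective _).comp (subgroupOfEquivOfLe hEC).symm.surjective
    have hne : g.comp φ ≠ 1 := fun he => hg (MonoidHom.ext fun z => by
      obtain ⟨x, rfl⟩ := hφ z
      exact DFunLike.congr_fun he x)
    have hr : (g.comp φ).range = g.range := by
      rw [MonoidHom.range_comp, MonoidHom.range_eq_top.mpr hφ, MonoidHom.range_eq_map]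
    exact hr ▸ hcard (g.comp φ) hne
  rcases le_centralizer_or_mem (bar s J) P h.goodQ
    (CfsgLib.Components.IsComponent.commutator_eq_self h.toComp.isComponent) hPperf hPN
    (map_conj_bar σ hσN) hcomm hc' with h1 | h1
  · exact Or.inl fun x hx y hy => (mem_centralizer_iff.mp (h1 (pr_mem_bar hx)) y hy).symm
  · exact Or.inr fun y hy => (mem_centralizer_iff.mp h1 y hy).symm

/-- If `z(J)` normalises `K`, then `z(K)` normalises `J`. -/
theorem normalizes_of_normalizes (hJ : Good m J s) (hK : Good m K t)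
    (hs : s ∈ normalizer (K : Set G)) : t ∈ normalizer (J : Set G) := by
  haveI : Fact (Nat.Prime 2) := ⟨Nat.prime_two⟩
  by_contra htJ
  have hst : Commute s t := hK.commute_of_normalizes hs
  have hne : s ≠ t := fun he => htJ (he ▸ le_normalizer hJ.mem)
  have htC : t ∈ C s := mem_C.mpr hst.symm
  have hsC : s ∈ C t := mem_C.mpr hst
  set J' := J.map (MulAut.conj t).toMonoidHom with hJ'def
  have hJ' : Good m J' s := hJ.conj_of_mem htC
  have hJne : J ≠ J' := fun he => htJ (mem_normalizer_iff_map_conj_eq.mpr he.symm)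
  -- a 2-subgroup containing `s` and `t`
  have hU : IsPGroup 2 (closure {s, t} : Subgroup G) := by
    intro x
    refine ⟨1, Subtype.ext ?_⟩
    have key : ∀ y ∈ closure ({s, t} : Set G), y * y = 1 ∧ Commute y s ∧ Commute y t := by
      intro y hy
      induction hy using Subgroup.closure_induction with
      | mem z hz =>
        rcases hz with rfl | rfl
        · exact ⟨hJ.sq, Commute.refl _, hst⟩
        · exact ⟨hK.sq, hst.symm, Commute.refl _⟩
      | one => exact ⟨one_mul 1, Commute.one_left _, Commute.one_left _⟩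
      | mul a b ha hb iha ihb =>
        have hab : Commute a b := by
          clear ihb
          induction hb using Subgroup.closure_induction with
          | mem z hz =>
            rcases hz with rfl | rfl
            · exact iha.2.1
            · exact iha.2.2
          | one => exact Commute.one_right a
          | mul u v _ _ hu hv => exact hu.mul_right hv
          | inv u _ hu => exact hu.inv_right
        exact ⟨by rw [show a * b * (a * b) = a * (b * a) * b by group, ← hab.eq,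
            show a * (a * b) * b = (a * a) * (b * b) by group, iha.1, ihb.1, one_mul],
          iha.2.1.mul_left ihb.2.1, iha.2.2.mul_left ihb.2.2⟩
      | inv a _ iha =>
        exact ⟨by rw [← mul_inv_rev, iha.1, inv_one], iha.2.1.inv_left, iha.2.2.inv_left⟩
    simpa [pow_two] using (key x x.2).1
  obtain ⟨T, hT, hUT⟩ := exists_maxTwo hU (show closure {s, t} ≤ C s from (closure_le _).mpr (by
    rintro z (rfl | rfl)
    · exact self_mem_C _
    · exact htC))
  have hsT : s ∈ T := hUT (subset_closure (Or.inl rfl))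
  have htT : t ∈ T := hUT (subset_closure (Or.inr rfl))
  obtain ⟨j, hjT, hjJ, hjj⟩ := hT.exists_four hJ
  set j' := t * j * t⁻¹ with hj'
  have hj'J : j' ∈ J' := ⟨j, hjJ, rfl⟩
  have hj'T : j' ∈ T := mul_mem (mul_mem htT hjT) (inv_mem htT)
  have hjC : j ∈ C s := hJ.le hjJ
  have hjs : Commute j s := mem_C.mp hjC
  have hj's : Commute j' s := mem_C.mp (hT.le hj'T)
  have hjj' : Commute j j' := hJ.toComp.commute_two hJ'.toComp hJne hT.isTwo hjJ hj'J hjT hj'T
  have hj'j' : j' * j' = s := by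
    rw [hj', show t * j * t⁻¹ * (t * j * t⁻¹) = t * (j * j) * t⁻¹ by group, hjj,
      mul_inv_eq_iff_eq_mul.mpr hst.symm.eq]
  obtain ⟨E, hEC, hELL, hEperf, hEmem, hEcard⟩ := exists_E_of_moved hJ hst.symm hK.sq htJ
  set d := j * j' with hd
  have hdE : d ∈ E := hEmem j hjJ hjj hjj'
  have hdt : Commute d t := mem_C.mp (hEC hdE).2
  have hds : Commute d s := mem_C.mp (hEC hdE).1
  have hdd : d * d = 1 := by
    rw [hd, show j * j' * (j * j') = j * (j' * j) * j' by group, ← hjj'.eq,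
      show j * (j * j') * j' = (j * j) * (j' * j') by group, hjj, hj'j', hJ.sq]
  have hdT : d ∈ T := mul_mem hjT hj'T
  have hEN : E ≤ normalizer (K : Set G) :=
    (hELL.trans (LL_comm s t).le).trans (LL_le_normalizer hK.toComp hst hJ.sq)
  -- `d̄` does not centralise `J̄`
  have contra_d : ¬ ∀ y ∈ bar s J, Commute (pr s ⟨d, hT.le hdT⟩) y := by
    intro hc
    refine hJ.not_mem_center_of_four (pr_mem_bar (x := ⟨j, hjC⟩) hjJ)
      (by rw [← map_mul]; exact congrArg (pr s) (Subtype.ext hjj)) fun y hy => ?_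
    have h2 := hc y hy
    rw [show (⟨d, hT.le hdT⟩ : C s) = ⟨j, hjC⟩ * ⟨j', hT.le hj'T⟩ from rfl, map_mul] at h2
    have h3 : Commute (pr s ⟨j', hT.le hj'T⟩) y :=
      (hJ.toComp.commute_bar hJ'.toComp hJne hy (pr_mem_bar (x := ⟨j', hT.le hj'T⟩) hj'J)).symm
    simpa using h2.mul_left h3.inv_left
  -- `d` centralises `K̄`
  have hcd : ∀ x : C t, (x : G) ∈ E → ∀ y ∈ bar t K, Commute (pr t x) y := by
    rcases hK.centralizes_or (hEC.trans inf_le_right) hEperf hEN hEcard ⟨s, hsC⟩ hs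
      (fun x hx => (mem_C.mp (hEC hx).1).symm) with h1 | h1
    · exact h1
    · exfalso
      obtain ⟨E₁, -, hE₁LL, -, hE₁mem, -⟩ := exists_E_of_centralized hK hst hJ.sq h1
      exact htJ (LL_le_normalizer hJ.toComp hst.symm hK.sq
        ((LL_comm t s).le (hE₁LL (hE₁mem t 1 hK.mem (by simpa [pow_two] using hK.sq) hst.symm))))
  -- an element `y` of order four of `K`
  have hTC : T ⊓ C t ≤ C t := inf_le_right
  obtain ⟨T', hT', hTT'⟩ := exists_maxTwo (hT.isTwo.to_le inf_le_left) hTC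
  have hsT' : s ∈ T' := hTT' ⟨hsT, hsC⟩
  have hdT' : d ∈ T' := hTT' ⟨hdT, mem_C.mpr hdt⟩
  have hPn : T' ⊓ normalizer (K : Set G) ≤ normalizer ((T' ⊓ K : Subgroup G) : Set G) :=
    le_trans (inf_le_inf_right _ le_normalizer) inf_normalizer_le_normalizer_inf
  obtain ⟨a, haT', haK, haa⟩ := hT'.exists_four hK
  obtain ⟨y, ⟨hyT', hyK⟩, hyy, hyfix⟩ := (hK.invol.mono (M := T' ⊓ K) inf_le_right
    ⟨hTT' ⟨htT, self_mem_C t⟩, hK.mem⟩).exists_four_fixed (hT'.isTwo.to_le inf_le_left)
    (inf_le_inf_left T' le_normalizer) hPn (fun p hp => mem_C.mp (hT'.le hp.1)) ⟨a, ⟨haT', haK⟩, haa⟩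
  have hyt : Commute y t := mem_C.mp (hK.le hyK)
  have hyd : Commute y d := by
    refine (congrArg Subtype.val (eq_of_pr hT'.isTwo (a := ⟨y, hK.le hyK⟩ * ⟨d, mem_C.mpr hdt⟩)
      (b := ⟨d, mem_C.mpr hdt⟩ * ⟨y, hK.le hyK⟩) (mul_mem hyT' hdT') (mul_mem hdT' hyT') ?_) : _)
    rw [map_mul, map_mul]
    exact (hcd ⟨d, mem_C.mpr hdt⟩ hdE _ (pr_mem_bar hyK)).symm.eq
  rcases hyfix s ⟨hsT', hs⟩ with hsy | hsy
  · -- `y` centralises `s`
    have hys : Commute y s := (mul_inv_eq_iff_eq_mul.mp hsy).symm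
    set Jy := J.map (MulAut.conj y).toMonoidHom with hJy
    have hJyC : Good m Jy s := hJ.conj_of_mem (mem_C.mpr hys)
    have hty : ∀ H : Subgroup G, (H.map (MulAut.conj t).toMonoidHom).map (MulAut.conj y).toMonoidHom =
        (H.map (MulAut.conj y).toMonoidHom).map (MulAut.conj t).toMonoidHom := by
      intro H
      rw [map_map, map_map]
      congr 1
      ext x
      simp only [MonoidHom.comp_apply, MulEquiv.coe_toMonoidHom, MulAut.conj_apply]
      rw [show y * (t * x * t⁻¹) * y⁻¹ = (y * t) * x * (y * t)⁻¹ by group, hyt.eq]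
      group
    have hsqr : (J.map (MulAut.conj y).toMonoidHom).map (MulAut.conj y).toMonoidHom = J' := by
      rw [hJ'def, map_map]
      congr 1
      ext x
      simp only [MonoidHom.comp_apply, MulEquiv.coe_toMonoidHom, MulAut.conj_apply, ← hyy]
      group
    by_cases h1 : Jy = J
    · exact hJne (by rw [← hsqr, ← hJy, h1, ← hJy, h1])
    by_cases h2 : Jy = J'
    · apply hJne
      calc J = (J'.map (MulAut.conj t).toMonoidHom) := by
            rw [hJ'def, map_map]
            convert (Subgroup.map_id J).symm using 2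
            ext x
            simp only [MonoidHom.comp_apply, MulEquiv.coe_toMonoidHom, MulAut.conj_apply,
              MonoidHom.id_apply]
            rw [show t * (t * x * t⁻¹) * t⁻¹ = (t * t) * x * (t * t)⁻¹ by group, hK.sq]
            group
        _ = (Jy.map (MulAut.conj t).toMonoidHom) := by rw [h2]
        _ = (J'.map (MulAut.conj y).toMonoidHom) := by rw [hJy, hJ'def, hty]
        _ = J' := by rw [← h2, hJy, hsqr, ← hJy, h2]
    refine contra_d fun z hz => ?_
    set yb : C s := ⟨y, mem_C.mpr hys⟩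
    set db : C s := ⟨d, hT.le hdT⟩
    have hyz : pr s yb * z * (pr s yb)⁻¹ ∈ bar s Jy := by
      rw [hJy, show (y : G) = (yb : G) from rfl, bar_conj]
      exact ⟨z, hz, rfl⟩
    have hc : Commute (pr s db) (pr s yb * z * (pr s yb)⁻¹) := by
      rw [show db = ⟨j, hjC⟩ * ⟨j', hT.le hj'T⟩ from rfl, map_mul]
      exact ((hJ.toComp.commute_bar hJyC.toComp (Ne.symm h1) (pr_mem_bar (x := ⟨j, hjC⟩) hjJ) hyz)).mul_left
        (hJ'.toComp.commute_bar hJyC.toComp (Ne.symm h2) (pr_mem_bar (x := ⟨j', hT.le hj'T⟩) hj'J) hyz)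
    have hyd' : Commute (pr s yb) (pr s db) := (show Commute yb db from Subtype.ext hyd.eq).map (pr s)
    have h3 := (hyd'.inv_left.symm.mul_right hc).mul_right hyd'.symm
    rwa [show (pr s yb)⁻¹ * (pr s yb * z * (pr s yb)⁻¹) * pr s yb = z by group] at h3
  · -- fusion: the component at `d s` is centralised by `s`
    have hjt : j * t * j⁻¹ = d * s * t := by
      have h1 : t * j⁻¹ * t⁻¹ = j' * s := by
        rw [show t * j⁻¹ * t⁻¹ = j'⁻¹ by rw [hj']; group]
        exact inv_eq_of_mul_eq_one_right (by rw [← mul_assoc, hj'j', hJ.sq])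
      calc j * t * j⁻¹ = j * (t * j⁻¹ * t⁻¹) * t := by group
        _ = _ := by rw [h1, hd]; group
    have hjd : j * d * j⁻¹ = d := by
      calc j * d * j⁻¹ = j * (j * j') * j⁻¹ := rfl
        _ = j * (j' * j) * j⁻¹ := by rw [hjj'.eq]
        _ = d := by rw [hd]; group
    have hyiv : y * s * y⁻¹ = t * s := by
      have h1 : s * y⁻¹ * s⁻¹ = t * y⁻¹ := by
        rw [show s * y⁻¹ * s⁻¹ = (s * y * s⁻¹)⁻¹ by group, hsy, mul_inv_rev,
          inv_eq_of_mul_eq_one_right hK.sq]
      calc y * s * y⁻¹ = y * (s * y⁻¹ * s⁻¹) * s := by group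
        _ = _ := by rw [h1, ← mul_assoc, hyt.eq]; group
    have hyd2 : y * d * y⁻¹ = d := by rw [hyd.eq, mul_inv_cancel_right]
    have hytt : y * t * y⁻¹ = t := by rw [hyt.eq, mul_inv_cancel_right]
    set h := y * j with hh
    have hht : h * t * h⁻¹ = d * s := by
      calc h * t * h⁻¹ = y * (j * t * j⁻¹) * y⁻¹ := by rw [hh]; group
        _ = (y * d * y⁻¹) * (y * s * y⁻¹) * (y * t * y⁻¹) := by rw [hjt]; group
        _ = d * (t * s) * t := by rw [hyd2, hyiv, hytt]
        _ = d * s * (t * t) := by rw [← hst.eq]; group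
        _ = _ := by rw [hK.sq, mul_one]
    have hhtd : h * (t * d) * h⁻¹ = s := by
      calc h * (t * d) * h⁻¹ = (h * t * h⁻¹) * (y * (j * d * j⁻¹) * y⁻¹) := by rw [hh]; group
        _ = d * s * d := by rw [hht, hjd, hyd2]
        _ = d * d * s := by rw [mul_assoc d s d, ← hds.eq, ← mul_assoc]
        _ = _ := by rw [hdd, one_mul]
    set e' := d * s with he'
    have hL : Good m (K.map (MulAut.conj h).toMonoidHom) e' := hht ▸ hK.conj h
    have hse : Commute s e' := hds.symm.mul_right (Commute.refl s)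
    have hcent : ∀ x ∈ bar e' (K.map (MulAut.conj h).toMonoidHom),
        Commute (pr e' ⟨s, mem_C.mpr hse⟩) x := by
      rintro _ ⟨x, ⟨k, hk, hkx⟩, rfl⟩
      set tb : C t := ⟨t, self_mem_C t⟩ * ⟨d, mem_C.mpr hdt⟩
      set kb : C t := ⟨k, hK.le hk⟩
      have h1 : Commute (pr t tb) (pr t kb) := by
        rw [map_mul]
        exact ((show Commute (⟨t, self_mem_C t⟩ : C t) kb from
          Subtype.ext (mem_C.mp kb.2).eq.symm).map (pr t)).mul_left
            (hcd ⟨d, mem_C.mpr hdt⟩ hdE _ (pr_mem_bar (x := kb) hk))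
      have h2 : pr t (tb * kb * tb⁻¹ * kb⁻¹) = 1 := by
        rw [map_mul, map_mul, map_mul, map_inv, map_inv, h1.eq]; group
      have h3 := pr_conj_eq_one hht h2 (v' := ⟨s, mem_C.mpr hse⟩ * x * ⟨s, mem_C.mpr hse⟩⁻¹ * x⁻¹) (by
        have hkx' : (x : G) = h * k * h⁻¹ := hkx.symm
        show s * (x : G) * s⁻¹ * (x : G)⁻¹ = h * (t * d * k * (t * d)⁻¹ * k⁻¹) * h⁻¹
        rw [hkx', ← hhtd]; group)
      rw [map_mul, map_mul, map_mul, map_inv, map_inv, mul_inv_eq_one, mul_inv_eq_iff_eq_mul] at h3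
      exact h3
    obtain ⟨E₂, hE₂C, hE₂LL, hE₂perf, hE₂mem, hE₂card⟩ :=
      exists_E_of_centralized hL hse hJ.sq hcent
    have hes : e' ∈ C s := mem_C.mpr hse.symm
    have hE₂N : E₂ ≤ normalizer (J : Set G) :=
      (hE₂LL.trans (LL_comm e' s).le).trans (LL_le_normalizer hJ.toComp hse.symm hL.sq)
    have he'mem : e' ∈ E₂ := hE₂mem e' 1 hL.mem (by simpa [pow_two] using hL.sq) hse.symm
    have hee : ∀ y ∈ bar s J, Commute (pr s ⟨e', hes⟩) y := by
      rcases hJ.centralizes_or (hE₂C.trans inf_le_right) hE₂perf hE₂N hE₂card ⟨e', hes⟩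
        (hE₂N he'mem) (fun x hx => (mem_C.mp (hE₂C hx).1).symm) with h1 | h1
      · exact h1 ⟨e', hes⟩ he'mem
      · exact h1
    refine contra_d fun z hz => ?_
    have h4 := hee z hz
    rw [show (⟨e', hes⟩ : C s) = ⟨d, hT.le hdT⟩ * self s from rfl, map_mul] at h4
    have h5 : Commute (pr s (self s)) z := hJ.invol_bar.comm z hz
    simpa using h4.mul_left h5.inv_left

end CfsgLib.IntrinsicSL2
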